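import Cfsg.Agent.TrialityInvol.Reduce

/-!
# The two classes of involutions of the triality group in characteristic two
-/

set_option autoImplicit false
set_option linter.unusedSectionVars false
set_option linter.unusedSimpArgs false
set_option maxHeartbeats 1000000

namespace CfsgLib.TrialityInvol

open Cfsg.Lie CfsgLib.Chevalley CfsgLib.GraphTwist

variable {K : Type*} [Field K] [Finite K] [CharP K 2] (Φ : FieldTwist setupD4 K)

/-- `yf 1` is central in `U¹`. -/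
theorem commute_yf {g : GL chevD4.Idx K} (hg : g ∈ Φ.U1) : yf 1 * g = g * yf 1 := by
  obtain ⟨e, p, u, v, c, d, -, -, -, rfl⟩ := exists_form Φ hg
  simp only [mul_assoc, fb', fa', fc', fd', fe', yf_add, add_comm]

theorem conj_yd_step {e : K} (he : Φ.f e = e) (p u v c d a b : K) :
    (∃ a' b', yb e * (yd Φ.f 1 * (ye a * yf b)) * (yb e)⁻¹ = yd Φ.f 1 * (ye a' * yf b')) ∧
    (∃ a' b', ya Φ.f p * (yd Φ.f 1 * (ye a * yf b)) * (ya Φ.f p)⁻¹ =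
      yd Φ.f 1 * (ye a' * yf b')) ∧
    (∃ a' b', yc Φ.f u * (yd Φ.f 1 * (ye a * yf b)) * (yc Φ.f u)⁻¹ =
      yd Φ.f 1 * (ye a' * yf b')) ∧
    (∃ a' b', yd Φ.f v * (ye c * yf d) * (yd Φ.f 1 * (ye a * yf b)) *
      (yd Φ.f v * (ye c * yf d))⁻¹ = yd Φ.f 1 * (ye a' * yf b')) := by
  refine ⟨?_, ?_, ?_, ?_⟩
  · simp only [ab' Φ.f (hf3 Φ) p he, mul_inv_rev, ya_inv, yb_inv, yc_inv, yd_inv, ye_inv, yf_inv, mul_assoc, ca Φ.f (hf3 Φ), ca' Φ.f (hf3 Φ), da, da', dc, dc', eb, eb', cb, cb', db, db', fb, fb', ea, ea', fa, fa', ec, ec', ed, ed', fc, fc', fd, fd', fe, fe', ya_add, ya_add', yb_add, yb_add', yc_add, yc_add', yd_add, yd_add', ye_add, ye_add', yf_add, yf_add', CharTwo.add_self_eq_zero, ya_zero, yb_zero, yc_zero, yd_zero, ye_zero, yf_zero, one_mul, mul_one]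
    exact ⟨_, _, rfl⟩
  · simp only [mul_inv_rev, ya_inv, yb_inv, yc_inv, yd_inv, ye_inv, yf_inv, mul_assoc, ca Φ.f (hf3 Φ), ca' Φ.f (hf3 Φ), da, da', dc, dc', eb, eb', cb, cb', db, db', fb, fb', ea, ea', fa, fa', ec, ec', ed, ed', fc, fc', fd, fd', fe, fe', ya_add, ya_add', yb_add, yb_add', yc_add, yc_add', yd_add, yd_add', ye_add, ye_add', yf_add, yf_add', CharTwo.add_self_eq_zero, ya_zero, yb_zero, yc_zero, yd_zero, ye_zero, yf_zero, one_mul, mul_one]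
    exact ⟨_, _, rfl⟩
  · simp only [mul_inv_rev, ya_inv, yb_inv, yc_inv, yd_inv, ye_inv, yf_inv, mul_assoc, ca Φ.f (hf3 Φ), ca' Φ.f (hf3 Φ), da, da', dc, dc', eb, eb', cb, cb', db, db', fb, fb', ea, ea', fa, fa', ec, ec', ed, ed', fc, fc', fd, fd', fe, fe', ya_add, ya_add', yb_add, yb_add', yc_add, yc_add', yd_add, yd_add', ye_add, ye_add', yf_add, yf_add', CharTwo.add_self_eq_zero, ya_zero, yb_zero, yc_zero, yd_zero, ye_zero, yf_zero, one_mul, mul_one]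
    exact ⟨_, _, rfl⟩
  · simp only [mul_inv_rev, ya_inv, yb_inv, yc_inv, yd_inv, ye_inv, yf_inv, mul_assoc, ca Φ.f (hf3 Φ), ca' Φ.f (hf3 Φ), da, da', dc, dc', eb, eb', cb, cb', db, db', fb, fb', ea, ea', fa, fa', ec, ec', ed, ed', fc, fc', fd, fd', fe, fe', ya_add, ya_add', yb_add, yb_add', yc_add, yc_add', yd_add, yd_add', ye_add, ye_add', yf_add, yf_add', CharTwo.add_self_eq_zero, ya_zero, yb_zero, yc_zero, yd_zero, ye_zero, yf_zero, one_mul, mul_one]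
    rw [show v + 1 + v = (1 : K) by linear_combination v * (CharTwo.two_eq_zero : (2 : K) = 0)]
    exact ⟨_, _, rfl⟩

theorem conj_yd {g : GL chevD4.Idx K} (hg : g ∈ Φ.U1) :
    ∃ c d : K, g⁻¹ * yd Φ.f 1 * g = yd Φ.f 1 * (ye c * yf d) := by
  obtain ⟨e, p, u, v, c, d, he, -, -, eq⟩ := exists_form Φ (inv_mem hg)
  obtain ⟨a₁, b₁, e₁⟩ := (conj_yd_step Φ he p u v c d 0 0).2.2.2
  obtain ⟨a₂, b₂, e₂⟩ := (conj_yd_step Φ he p u v c d a₁ b₁).2.2.1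
  obtain ⟨a₃, b₃, e₃⟩ := (conj_yd_step Φ he p u v c d a₂ b₂).2.1
  obtain ⟨a₄, b₄, e₄⟩ := (conj_yd_step Φ he p u v c d a₃ b₃).1
  refine ⟨a₄, b₄, ?_⟩
  rw [← e₄, ← e₃, ← e₂, ← e₁, ye_zero, yf_zero, mul_one, mul_one,
    show g = g⁻¹⁻¹ from (inv_inv g).symm, inv_inv g⁻¹, eq]
  group

theorem fixed_roots (s : Root chevD4) (hs : half chevD4 ≤ (s : ℕ))
    (h : setupD4.σR s = s) : s = rt 14 ∨ s = rt 22 ∨ s = rt 23 := by
  have key : ∀ s : Fin 24, 12 ≤ (s : ℕ) → setupD4.σR (rt s) = rt s →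
      rt s = rt 14 ∨ rt s = rt 22 ∨ rt s = rt 23 := by decide +kernel
  exact key ⟨s.1, s.2⟩ hs h

theorem not_conj {g : GL chevD4.Idx K} (hg : g ∈ Φ.tG) : g * yf 1 * g⁻¹ ≠ yd Φ.f 1 := by
  intro e
  obtain ⟨u, hu, m, hm, v, hv, rfl⟩ := Φ.exists_decomp hg
  obtain ⟨π, hπ⟩ : ∃ π, MonBy setupD4.good m π :=
    ⟨_, monBy_weylHom setupD4.good setupD4.rootGood ⟨m, Φ.M₀_le_monomial hm⟩⟩
  obtain ⟨c, hc⟩ := Φ.conj_oX hπ (Φ.M₀_le_fix hm) (rt 23)
  obtain ⟨-, h1⟩ := hc 1 (Φ.adm_one _)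
  rw [oX_yf, mul_one] at h1
  obtain ⟨a, b, h2⟩ := conj_yd Φ hu
  have h3 : Φ.oX (π (rt 23)) (c : K) = yd Φ.f 1 * (ye a * yf b) := by
    rw [← h1, ← h2, ← e]
    calc m * yf 1 * m⁻¹ = u⁻¹ * (u * m * (yf 1 * v) * v⁻¹ * m⁻¹ * u⁻¹) * u := by group
      _ = _ := by rw [commute_yf Φ hv]; group
  have hσ : setupD4.σR (π (rt 23)) = π (rt 23) :=
    (Φ.osize_monBy hπ (Φ.M₀_le_fix hm) _).2 fix_data.1.2.2
  have hpos : half chevD4 ≤ ((π (rt 23) : Root chevD4) : ℕ) := by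
    by_contra hn
    have h4 : Φ.oX (π (rt 23)) (c : K) ∈ chevD4.borelSubgroup K ⊓ chevD4.negUnipotent K := by
      refine Subgroup.mem_inf.2 ⟨?_, Φ.oX_mem_neg (Nat.lt_of_not_le hn) _⟩
      rw [h3]
      refine pos_le_borel chevD4 ?_
      rw [← setupD4.uT_zero (K := K)]
      exact setupD4.uT_anti (Nat.zero_le 3) (tail3 Φ 1 a b)
    rw [borel_inf_neg setupD4.good, Subgroup.mem_bot, h3] at h4
    exact one_ne_zero (yd_head Φ (tail4 Φ a b) h4)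
  rcases fixed_roots _ hpos hσ with h | h | h <;> rw [h] at h3
  · rw [oX_yb] at h3
    refine c.ne_zero (yb_head Φ (setupD4.uT_anti (by decide) (inv_mem (tail3 Φ 1 a b))) ?_)
    rw [h3, mul_inv_cancel]
  · rw [oX_ye] at h3
    refine one_ne_zero (yd_head Φ (mul_mem (tail4 Φ a b) (inv_mem (ye_tail Φ (c : K)))) ?_)
    rw [← mul_assoc, ← h3, mul_inv_cancel]
  · rw [oX_yf] at h3
    refine one_ne_zero (yd_head Φ
      (mul_mem (tail4 Φ a b) (setupD4.uT_anti (by decide) (inv_mem (yf_tail Φ (c : K))))) ?_)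
    rw [← mul_assoc, ← h3, mul_inv_cancel]

theorem orderOf_two {z : GL chevD4.Idx K} (h : z * z = 1) (h1 : z ≠ 1) : orderOf z = 2 :=
  orderOf_eq_prime (by rw [pow_two, h]) h1

theorem classes_ncard [Fintype K] :
    (ConjClasses.mk '' {g : ↥Φ.tG | orderOf g = 2}).ncard = 2 := by
  let y₁ : ↥Φ.tG := ⟨yf 1, Φ.U1_le_tG (yf_mem Φ (map_one _))⟩
  let y₂ : ↥Φ.tG := ⟨yd Φ.f 1, Φ.U1_le_tG (yd_mem Φ 1)⟩
  have o₁ : orderOf y₁ = 2 := by
    rw [← Subgroup.orderOf_coe]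
    exact orderOf_two (by rw [yf_add, CharTwo.add_self_eq_zero, yf_zero])
      fun h => one_ne_zero (yf_head Φ h)
  have o₂ : orderOf y₂ = 2 := by
    rw [← Subgroup.orderOf_coe]
    exact orderOf_two (by rw [yd_add, CharTwo.add_self_eq_zero, yd_zero])
      fun h => one_ne_zero (yd_head Φ (one_mem _) (by rw [mul_one]; exact h))
  have hne : ConjClasses.mk y₁ ≠ ConjClasses.mk y₂ := fun h => by
    obtain ⟨g, hg⟩ := isConj_iff.1 (ConjClasses.mk_eq_mk_iff_isConj.1 h)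
    exact not_conj Φ g.2 (congrArg Subtype.val hg)
  suffices hset : ConjClasses.mk '' {g : ↥Φ.tG | orderOf g = 2} =
      {ConjClasses.mk y₁, ConjClasses.mk y₂} by rw [hset, Set.ncard_pair hne]
  refine Set.Subset.antisymm ?_ (by
    rintro _ (rfl | rfl)
    · exact ⟨y₁, o₁, rfl⟩
    · exact ⟨y₂, o₂, rfl⟩)
  rintro _ ⟨g, hg, rfl⟩
  have hg2 : (g : GL chevD4.Idx K) * g = 1 := by
    have := pow_orderOf_eq_one g
    rw [show orderOf g = 2 from hg, pow_two] at this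
    exact congrArg Subtype.val this
  have hg1 : (g : GL chevD4.Idx K) ≠ 1 := fun h => by
    have : g = 1 := Subtype.ext h
    rw [this] at hg
    simp at hg
  obtain ⟨x, hx, hxU⟩ := Φ.exists_conj_mem_U1 setupD4_faithful 2 g.2 (k := 1)
    (by rw [pow_one, pow_two, hg2])
  obtain ⟨h, hh, hr⟩ := ToRep.of_conj Φ hx
    (toRep_of_mem_U1 Φ hxU (conj_sq hg2) fun h => hg1 (conj_eq_one_iff.1 h))
  rcases hr with hr | hr
  · exact Or.inl (ConjClasses.mk_eq_mk_iff_isConj.2 (isConj_iff.2 ⟨⟨h, hh⟩, Subtype.ext hr⟩))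
  · exact Or.inr (ConjClasses.mk_eq_mk_iff_isConj.2 (isConj_iff.2 ⟨⟨h, hh⟩, Subtype.ext hr⟩))

end CfsgLib.TrialityInvol
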