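import Cfsg.Agent.GraphTwist.DataD4
import Cfsg.Agent.Chevalley.Commutator
import Mathlib.Algebra.CharP.Two

/-!
# Collection rules for the positive root elements of D4 in characteristic two

The roots are ordered by the orbits of triality: `14; 12, 18, 13; 15, 19, 16; 17, 20, 21; 22; 23`.
(The rules are generated from the root list; every one is checked by the kernel.)
-/

set_option autoImplicit false

namespace CfsgLib.TrialityInvol

open Cfsg.Lie CfsgLib.Chevalley CfsgLib.GraphTwist

variable {K : Type*} [Field K]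

/-- The root elements of D4, indexed by `Fin 24`. -/
def r (k : Fin 24) (t : K) : GL chevD4.Idx K := X setupD4.good.good (⟨k.1, k.2⟩ : Root chevD4) t

theorem r_zero (k : Fin 24) : r k (0 : K) = 1 := X_zero _ _

theorem r_add (k : Fin 24) (s t : K) : r k s * r k t = r k (s + t) := X_mul _ _ _ _

theorem r_add' (k : Fin 24) (s t : K) (R : GL chevD4.Idx K) :
    r k s * (r k t * R) = r k (s + t) * R := by rw [← mul_assoc, r_add]

variable [CharP K 2]

theorem r_inv (k : Fin 24) (t : K) : (r k t)⁻¹ = r k t := by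
  rw [r, X_inv, CharTwo.neg_eq]

theorem cast_odd {z : ℤ} (h : z % 2 = 1) : (z : K) = 1 := by
  obtain ⟨k, rfl⟩ : ∃ k, z = 2 * k + 1 := ⟨z / 2, by omega⟩
  simp [CharTwo.two_eq_zero]

theorem swap_terms {i j : Fin 24} (hne : j ≠ i) (hne' : j.1 + i.1 ≠ 23) (t u : K) :
    r j u * r i t = r i t * r j u * commRhs setupD4.good.good i j t u :=
  X_comm setupD4.good.toGoodComm (⟨i.1, i.2⟩ : Root chevD4) ⟨j.1, j.2⟩
    (fun e => hne (Fin.ext (Fin.ext_iff.1 e :))) (fun e => hne' (by
      have := Fin.ext_iff.1 e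
      simp only [Fin.val_rev] at this
      change j.1 = 24 - (i.1 + 1) at this
      have := i.2
      omega)) t u

theorem swap_nil {i j : Fin 24} (hne : j ≠ i) (hne' : j.1 + i.1 ≠ 23)
    (h : chevD4.commTerms i j = []) (t u : K) : r j u * r i t = r i t * r j u := by
  rw [swap_terms hne hne', commRhs, h]
  simp [wordGL]

theorem swap_one {i j k : Fin 24} (hne : j ≠ i) (hne' : j.1 + i.1 ≠ 23)
    (h : (chevD4.commTerms i j).map (fun c => (c.1, c.2.1 % 2, c.2.2)) = [(k.1, 1, 1, 1)])
    (t u : K) : r j u * r i t = r i t * (r j u * r k (t * u)) := by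
  obtain ⟨⟨a, z, p, q⟩, hc, hv⟩ := List.map_eq_singleton_iff.1 h
  simp only [Prod.mk.injEq] at hv
  obtain ⟨rfl, hz, rfl, rfl⟩ := hv
  rw [swap_terms hne hne', commRhs, hc]
  simp only [wordGL, List.map_cons, List.map_nil, List.prod_cons, List.prod_nil, mul_one,
    cast_odd hz, pow_one, one_mul, CharTwo.neg_eq]
  rw [dif_pos (show (k : ℕ) < chevD4.nroots from k.2), r, r, r, mul_assoc]

theorem under {G : Type*} [Group G] {a b c : G} (e : a * b = c) (R : G) :
    a * (b * R) = c * R := by rw [← mul_assoc, e]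

theorem c12_14 (t u : K) : r 12 u * r 14 t = r 14 t * (r 12 u * r 15 (t * u)) :=
  swap_one (k := 15) (by decide) (by decide) (by decide +kernel) t u

theorem c12_14' (t u : K) (R : GL chevD4.Idx K) : r 12 u * (r 14 t * R) = (r 14 t * (r 12 u * r 15 (t * u))) * R :=
  under (c12_14 t u) R

theorem c18_14 (t u : K) : r 18 u * r 14 t = r 14 t * (r 18 u * r 19 (t * u)) :=
  swap_one (k := 19) (by decide) (by decide) (by decide +kernel) t u

theorem c18_14' (t u : K) (R : GL chevD4.Idx K) : r 18 u * (r 14 t * R) = (r 14 t * (r 18 u * r 19 (t * u))) * R :=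
  under (c18_14 t u) R

theorem c13_14 (t u : K) : r 13 u * r 14 t = r 14 t * (r 13 u * r 16 (t * u)) :=
  swap_one (k := 16) (by decide) (by decide) (by decide +kernel) t u

theorem c13_14' (t u : K) (R : GL chevD4.Idx K) : r 13 u * (r 14 t * R) = (r 14 t * (r 13 u * r 16 (t * u))) * R :=
  under (c13_14 t u) R

theorem c15_14 (t u : K) : r 15 u * r 14 t = r 14 t * r 15 u :=
  swap_nil (by decide) (by decide) (by decide +kernel) t u

theorem c15_14' (t u : K) (R : GL chevD4.Idx K) : r 15 u * (r 14 t * R) = (r 14 t * r 15 u) * R :=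
  under (c15_14 t u) R

theorem c19_14 (t u : K) : r 19 u * r 14 t = r 14 t * r 19 u :=
  swap_nil (by decide) (by decide) (by decide +kernel) t u

theorem c19_14' (t u : K) (R : GL chevD4.Idx K) : r 19 u * (r 14 t * R) = (r 14 t * r 19 u) * R :=
  under (c19_14 t u) R

theorem c16_14 (t u : K) : r 16 u * r 14 t = r 14 t * r 16 u :=
  swap_nil (by decide) (by decide) (by decide +kernel) t u

theorem c16_14' (t u : K) (R : GL chevD4.Idx K) : r 16 u * (r 14 t * R) = (r 14 t * r 16 u) * R :=
  under (c16_14 t u) R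

theorem c17_14 (t u : K) : r 17 u * r 14 t = r 14 t * r 17 u :=
  swap_nil (by decide) (by decide) (by decide +kernel) t u

theorem c17_14' (t u : K) (R : GL chevD4.Idx K) : r 17 u * (r 14 t * R) = (r 14 t * r 17 u) * R :=
  under (c17_14 t u) R

theorem c20_14 (t u : K) : r 20 u * r 14 t = r 14 t * r 20 u :=
  swap_nil (by decide) (by decide) (by decide +kernel) t u

theorem c20_14' (t u : K) (R : GL chevD4.Idx K) : r 20 u * (r 14 t * R) = (r 14 t * r 20 u) * R :=
  under (c20_14 t u) R

theorem c21_14 (t u : K) : r 21 u * r 14 t = r 14 t * r 21 u :=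
  swap_nil (by decide) (by decide) (by decide +kernel) t u

theorem c21_14' (t u : K) (R : GL chevD4.Idx K) : r 21 u * (r 14 t * R) = (r 14 t * r 21 u) * R :=
  under (c21_14 t u) R

theorem c22_14 (t u : K) : r 22 u * r 14 t = r 14 t * (r 22 u * r 23 (t * u)) :=
  swap_one (k := 23) (by decide) (by decide) (by decide +kernel) t u

theorem c22_14' (t u : K) (R : GL chevD4.Idx K) : r 22 u * (r 14 t * R) = (r 14 t * (r 22 u * r 23 (t * u))) * R :=
  under (c22_14 t u) R

theorem c23_14 (t u : K) : r 23 u * r 14 t = r 14 t * r 23 u :=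
  swap_nil (by decide) (by decide) (by decide +kernel) t u

theorem c23_14' (t u : K) (R : GL chevD4.Idx K) : r 23 u * (r 14 t * R) = (r 14 t * r 23 u) * R :=
  under (c23_14 t u) R

theorem c18_12 (t u : K) : r 18 u * r 12 t = r 12 t * r 18 u :=
  swap_nil (by decide) (by decide) (by decide +kernel) t u

theorem c18_12' (t u : K) (R : GL chevD4.Idx K) : r 18 u * (r 12 t * R) = (r 12 t * r 18 u) * R :=
  under (c18_12 t u) R

theorem c13_12 (t u : K) : r 13 u * r 12 t = r 12 t * r 13 u :=
  swap_nil (by decide) (by decide) (by decide +kernel) t u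

theorem c13_12' (t u : K) (R : GL chevD4.Idx K) : r 13 u * (r 12 t * R) = (r 12 t * r 13 u) * R :=
  under (c13_12 t u) R

theorem c15_12 (t u : K) : r 15 u * r 12 t = r 12 t * r 15 u :=
  swap_nil (by decide) (by decide) (by decide +kernel) t u

theorem c15_12' (t u : K) (R : GL chevD4.Idx K) : r 15 u * (r 12 t * R) = (r 12 t * r 15 u) * R :=
  under (c15_12 t u) R

theorem c19_12 (t u : K) : r 19 u * r 12 t = r 12 t * (r 19 u * r 20 (t * u)) :=
  swap_one (k := 20) (by decide) (by decide) (by decide +kernel) t u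

theorem c19_12' (t u : K) (R : GL chevD4.Idx K) : r 19 u * (r 12 t * R) = (r 12 t * (r 19 u * r 20 (t * u))) * R :=
  under (c19_12 t u) R

theorem c16_12 (t u : K) : r 16 u * r 12 t = r 12 t * (r 16 u * r 17 (t * u)) :=
  swap_one (k := 17) (by decide) (by decide) (by decide +kernel) t u

theorem c16_12' (t u : K) (R : GL chevD4.Idx K) : r 16 u * (r 12 t * R) = (r 12 t * (r 16 u * r 17 (t * u))) * R :=
  under (c16_12 t u) R

theorem c17_12 (t u : K) : r 17 u * r 12 t = r 12 t * r 17 u :=
  swap_nil (by decide) (by decide) (by decide +kernel) t u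

theorem c17_12' (t u : K) (R : GL chevD4.Idx K) : r 17 u * (r 12 t * R) = (r 12 t * r 17 u) * R :=
  under (c17_12 t u) R

theorem c20_12 (t u : K) : r 20 u * r 12 t = r 12 t * r 20 u :=
  swap_nil (by decide) (by decide) (by decide +kernel) t u

theorem c20_12' (t u : K) (R : GL chevD4.Idx K) : r 20 u * (r 12 t * R) = (r 12 t * r 20 u) * R :=
  under (c20_12 t u) R

theorem c21_12 (t u : K) : r 21 u * r 12 t = r 12 t * (r 21 u * r 22 (t * u)) :=
  swap_one (k := 22) (by decide) (by decide) (by decide +kernel) t u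

theorem c21_12' (t u : K) (R : GL chevD4.Idx K) : r 21 u * (r 12 t * R) = (r 12 t * (r 21 u * r 22 (t * u))) * R :=
  under (c21_12 t u) R

theorem c22_12 (t u : K) : r 22 u * r 12 t = r 12 t * r 22 u :=
  swap_nil (by decide) (by decide) (by decide +kernel) t u

theorem c22_12' (t u : K) (R : GL chevD4.Idx K) : r 22 u * (r 12 t * R) = (r 12 t * r 22 u) * R :=
  under (c22_12 t u) R

theorem c23_12 (t u : K) : r 23 u * r 12 t = r 12 t * r 23 u :=
  swap_nil (by decide) (by decide) (by decide +kernel) t u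

theorem c23_12' (t u : K) (R : GL chevD4.Idx K) : r 23 u * (r 12 t * R) = (r 12 t * r 23 u) * R :=
  under (c23_12 t u) R

theorem c13_18 (t u : K) : r 13 u * r 18 t = r 18 t * r 13 u :=
  swap_nil (by decide) (by decide) (by decide +kernel) t u

theorem c13_18' (t u : K) (R : GL chevD4.Idx K) : r 13 u * (r 18 t * R) = (r 18 t * r 13 u) * R :=
  under (c13_18 t u) R

theorem c15_18 (t u : K) : r 15 u * r 18 t = r 18 t * (r 15 u * r 20 (t * u)) :=
  swap_one (k := 20) (by decide) (by decide) (by decide +kernel) t u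

theorem c15_18' (t u : K) (R : GL chevD4.Idx K) : r 15 u * (r 18 t * R) = (r 18 t * (r 15 u * r 20 (t * u))) * R :=
  under (c15_18 t u) R

theorem c19_18 (t u : K) : r 19 u * r 18 t = r 18 t * r 19 u :=
  swap_nil (by decide) (by decide) (by decide +kernel) t u

theorem c19_18' (t u : K) (R : GL chevD4.Idx K) : r 19 u * (r 18 t * R) = (r 18 t * r 19 u) * R :=
  under (c19_18 t u) R

theorem c16_18 (t u : K) : r 16 u * r 18 t = r 18 t * (r 16 u * r 21 (t * u)) :=
  swap_one (k := 21) (by decide) (by decide) (by decide +kernel) t u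

theorem c16_18' (t u : K) (R : GL chevD4.Idx K) : r 16 u * (r 18 t * R) = (r 18 t * (r 16 u * r 21 (t * u))) * R :=
  under (c16_18 t u) R

theorem c17_18 (t u : K) : r 17 u * r 18 t = r 18 t * (r 17 u * r 22 (t * u)) :=
  swap_one (k := 22) (by decide) (by decide) (by decide +kernel) t u

theorem c17_18' (t u : K) (R : GL chevD4.Idx K) : r 17 u * (r 18 t * R) = (r 18 t * (r 17 u * r 22 (t * u))) * R :=
  under (c17_18 t u) R

theorem c20_18 (t u : K) : r 20 u * r 18 t = r 18 t * r 20 u :=
  swap_nil (by decide) (by decide) (by decide +kernel) t u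

theorem c20_18' (t u : K) (R : GL chevD4.Idx K) : r 20 u * (r 18 t * R) = (r 18 t * r 20 u) * R :=
  under (c20_18 t u) R

theorem c21_18 (t u : K) : r 21 u * r 18 t = r 18 t * r 21 u :=
  swap_nil (by decide) (by decide) (by decide +kernel) t u

theorem c21_18' (t u : K) (R : GL chevD4.Idx K) : r 21 u * (r 18 t * R) = (r 18 t * r 21 u) * R :=
  under (c21_18 t u) R

theorem c22_18 (t u : K) : r 22 u * r 18 t = r 18 t * r 22 u :=
  swap_nil (by decide) (by decide) (by decide +kernel) t u

theorem c22_18' (t u : K) (R : GL chevD4.Idx K) : r 22 u * (r 18 t * R) = (r 18 t * r 22 u) * R :=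
  under (c22_18 t u) R

theorem c23_18 (t u : K) : r 23 u * r 18 t = r 18 t * r 23 u :=
  swap_nil (by decide) (by decide) (by decide +kernel) t u

theorem c23_18' (t u : K) (R : GL chevD4.Idx K) : r 23 u * (r 18 t * R) = (r 18 t * r 23 u) * R :=
  under (c23_18 t u) R

theorem c15_13 (t u : K) : r 15 u * r 13 t = r 13 t * (r 15 u * r 17 (t * u)) :=
  swap_one (k := 17) (by decide) (by decide) (by decide +kernel) t u

theorem c15_13' (t u : K) (R : GL chevD4.Idx K) : r 15 u * (r 13 t * R) = (r 13 t * (r 15 u * r 17 (t * u))) * R :=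
  under (c15_13 t u) R

theorem c19_13 (t u : K) : r 19 u * r 13 t = r 13 t * (r 19 u * r 21 (t * u)) :=
  swap_one (k := 21) (by decide) (by decide) (by decide +kernel) t u

theorem c19_13' (t u : K) (R : GL chevD4.Idx K) : r 19 u * (r 13 t * R) = (r 13 t * (r 19 u * r 21 (t * u))) * R :=
  under (c19_13 t u) R

theorem c16_13 (t u : K) : r 16 u * r 13 t = r 13 t * r 16 u :=
  swap_nil (by decide) (by decide) (by decide +kernel) t u

theorem c16_13' (t u : K) (R : GL chevD4.Idx K) : r 16 u * (r 13 t * R) = (r 13 t * r 16 u) * R :=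
  under (c16_13 t u) R

theorem c17_13 (t u : K) : r 17 u * r 13 t = r 13 t * r 17 u :=
  swap_nil (by decide) (by decide) (by decide +kernel) t u

theorem c17_13' (t u : K) (R : GL chevD4.Idx K) : r 17 u * (r 13 t * R) = (r 13 t * r 17 u) * R :=
  under (c17_13 t u) R

theorem c20_13 (t u : K) : r 20 u * r 13 t = r 13 t * (r 20 u * r 22 (t * u)) :=
  swap_one (k := 22) (by decide) (by decide) (by decide +kernel) t u

theorem c20_13' (t u : K) (R : GL chevD4.Idx K) : r 20 u * (r 13 t * R) = (r 13 t * (r 20 u * r 22 (t * u))) * R :=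
  under (c20_13 t u) R

theorem c21_13 (t u : K) : r 21 u * r 13 t = r 13 t * r 21 u :=
  swap_nil (by decide) (by decide) (by decide +kernel) t u

theorem c21_13' (t u : K) (R : GL chevD4.Idx K) : r 21 u * (r 13 t * R) = (r 13 t * r 21 u) * R :=
  under (c21_13 t u) R

theorem c22_13 (t u : K) : r 22 u * r 13 t = r 13 t * r 22 u :=
  swap_nil (by decide) (by decide) (by decide +kernel) t u

theorem c22_13' (t u : K) (R : GL chevD4.Idx K) : r 22 u * (r 13 t * R) = (r 13 t * r 22 u) * R :=
  under (c22_13 t u) R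

theorem c23_13 (t u : K) : r 23 u * r 13 t = r 13 t * r 23 u :=
  swap_nil (by decide) (by decide) (by decide +kernel) t u

theorem c23_13' (t u : K) (R : GL chevD4.Idx K) : r 23 u * (r 13 t * R) = (r 13 t * r 23 u) * R :=
  under (c23_13 t u) R

theorem c19_15 (t u : K) : r 19 u * r 15 t = r 15 t * r 19 u :=
  swap_nil (by decide) (by decide) (by decide +kernel) t u

theorem c19_15' (t u : K) (R : GL chevD4.Idx K) : r 19 u * (r 15 t * R) = (r 15 t * r 19 u) * R :=
  under (c19_15 t u) R

theorem c16_15 (t u : K) : r 16 u * r 15 t = r 15 t * r 16 u :=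
  swap_nil (by decide) (by decide) (by decide +kernel) t u

theorem c16_15' (t u : K) (R : GL chevD4.Idx K) : r 16 u * (r 15 t * R) = (r 15 t * r 16 u) * R :=
  under (c16_15 t u) R

theorem c17_15 (t u : K) : r 17 u * r 15 t = r 15 t * r 17 u :=
  swap_nil (by decide) (by decide) (by decide +kernel) t u

theorem c17_15' (t u : K) (R : GL chevD4.Idx K) : r 17 u * (r 15 t * R) = (r 15 t * r 17 u) * R :=
  under (c17_15 t u) R

theorem c20_15 (t u : K) : r 20 u * r 15 t = r 15 t * r 20 u :=
  swap_nil (by decide) (by decide) (by decide +kernel) t u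

theorem c20_15' (t u : K) (R : GL chevD4.Idx K) : r 20 u * (r 15 t * R) = (r 15 t * r 20 u) * R :=
  under (c20_15 t u) R

theorem c21_15 (t u : K) : r 21 u * r 15 t = r 15 t * (r 21 u * r 23 (t * u)) :=
  swap_one (k := 23) (by decide) (by decide) (by decide +kernel) t u

theorem c21_15' (t u : K) (R : GL chevD4.Idx K) : r 21 u * (r 15 t * R) = (r 15 t * (r 21 u * r 23 (t * u))) * R :=
  under (c21_15 t u) R

theorem c22_15 (t u : K) : r 22 u * r 15 t = r 15 t * r 22 u :=
  swap_nil (by decide) (by decide) (by decide +kernel) t u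

theorem c22_15' (t u : K) (R : GL chevD4.Idx K) : r 22 u * (r 15 t * R) = (r 15 t * r 22 u) * R :=
  under (c22_15 t u) R

theorem c23_15 (t u : K) : r 23 u * r 15 t = r 15 t * r 23 u :=
  swap_nil (by decide) (by decide) (by decide +kernel) t u

theorem c23_15' (t u : K) (R : GL chevD4.Idx K) : r 23 u * (r 15 t * R) = (r 15 t * r 23 u) * R :=
  under (c23_15 t u) R

theorem c16_19 (t u : K) : r 16 u * r 19 t = r 19 t * r 16 u :=
  swap_nil (by decide) (by decide) (by decide +kernel) t u

theorem c16_19' (t u : K) (R : GL chevD4.Idx K) : r 16 u * (r 19 t * R) = (r 19 t * r 16 u) * R :=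
  under (c16_19 t u) R

theorem c17_19 (t u : K) : r 17 u * r 19 t = r 19 t * (r 17 u * r 23 (t * u)) :=
  swap_one (k := 23) (by decide) (by decide) (by decide +kernel) t u

theorem c17_19' (t u : K) (R : GL chevD4.Idx K) : r 17 u * (r 19 t * R) = (r 19 t * (r 17 u * r 23 (t * u))) * R :=
  under (c17_19 t u) R

theorem c20_19 (t u : K) : r 20 u * r 19 t = r 19 t * r 20 u :=
  swap_nil (by decide) (by decide) (by decide +kernel) t u

theorem c20_19' (t u : K) (R : GL chevD4.Idx K) : r 20 u * (r 19 t * R) = (r 19 t * r 20 u) * R :=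
  under (c20_19 t u) R

theorem c21_19 (t u : K) : r 21 u * r 19 t = r 19 t * r 21 u :=
  swap_nil (by decide) (by decide) (by decide +kernel) t u

theorem c21_19' (t u : K) (R : GL chevD4.Idx K) : r 21 u * (r 19 t * R) = (r 19 t * r 21 u) * R :=
  under (c21_19 t u) R

theorem c22_19 (t u : K) : r 22 u * r 19 t = r 19 t * r 22 u :=
  swap_nil (by decide) (by decide) (by decide +kernel) t u

theorem c22_19' (t u : K) (R : GL chevD4.Idx K) : r 22 u * (r 19 t * R) = (r 19 t * r 22 u) * R :=
  under (c22_19 t u) R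

theorem c23_19 (t u : K) : r 23 u * r 19 t = r 19 t * r 23 u :=
  swap_nil (by decide) (by decide) (by decide +kernel) t u

theorem c23_19' (t u : K) (R : GL chevD4.Idx K) : r 23 u * (r 19 t * R) = (r 19 t * r 23 u) * R :=
  under (c23_19 t u) R

theorem c17_16 (t u : K) : r 17 u * r 16 t = r 16 t * r 17 u :=
  swap_nil (by decide) (by decide) (by decide +kernel) t u

theorem c17_16' (t u : K) (R : GL chevD4.Idx K) : r 17 u * (r 16 t * R) = (r 16 t * r 17 u) * R :=
  under (c17_16 t u) R

theorem c20_16 (t u : K) : r 20 u * r 16 t = r 16 t * (r 20 u * r 23 (t * u)) :=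
  swap_one (k := 23) (by decide) (by decide) (by decide +kernel) t u

theorem c20_16' (t u : K) (R : GL chevD4.Idx K) : r 20 u * (r 16 t * R) = (r 16 t * (r 20 u * r 23 (t * u))) * R :=
  under (c20_16 t u) R

theorem c21_16 (t u : K) : r 21 u * r 16 t = r 16 t * r 21 u :=
  swap_nil (by decide) (by decide) (by decide +kernel) t u

theorem c21_16' (t u : K) (R : GL chevD4.Idx K) : r 21 u * (r 16 t * R) = (r 16 t * r 21 u) * R :=
  under (c21_16 t u) R

theorem c22_16 (t u : K) : r 22 u * r 16 t = r 16 t * r 22 u :=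
  swap_nil (by decide) (by decide) (by decide +kernel) t u

theorem c22_16' (t u : K) (R : GL chevD4.Idx K) : r 22 u * (r 16 t * R) = (r 16 t * r 22 u) * R :=
  under (c22_16 t u) R

theorem c23_16 (t u : K) : r 23 u * r 16 t = r 16 t * r 23 u :=
  swap_nil (by decide) (by decide) (by decide +kernel) t u

theorem c23_16' (t u : K) (R : GL chevD4.Idx K) : r 23 u * (r 16 t * R) = (r 16 t * r 23 u) * R :=
  under (c23_16 t u) R

theorem c20_17 (t u : K) : r 20 u * r 17 t = r 17 t * r 20 u :=
  swap_nil (by decide) (by decide) (by decide +kernel) t u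

theorem c20_17' (t u : K) (R : GL chevD4.Idx K) : r 20 u * (r 17 t * R) = (r 17 t * r 20 u) * R :=
  under (c20_17 t u) R

theorem c21_17 (t u : K) : r 21 u * r 17 t = r 17 t * r 21 u :=
  swap_nil (by decide) (by decide) (by decide +kernel) t u

theorem c21_17' (t u : K) (R : GL chevD4.Idx K) : r 21 u * (r 17 t * R) = (r 17 t * r 21 u) * R :=
  under (c21_17 t u) R

theorem c22_17 (t u : K) : r 22 u * r 17 t = r 17 t * r 22 u :=
  swap_nil (by decide) (by decide) (by decide +kernel) t u

theorem c22_17' (t u : K) (R : GL chevD4.Idx K) : r 22 u * (r 17 t * R) = (r 17 t * r 22 u) * R :=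
  under (c22_17 t u) R

theorem c23_17 (t u : K) : r 23 u * r 17 t = r 17 t * r 23 u :=
  swap_nil (by decide) (by decide) (by decide +kernel) t u

theorem c23_17' (t u : K) (R : GL chevD4.Idx K) : r 23 u * (r 17 t * R) = (r 17 t * r 23 u) * R :=
  under (c23_17 t u) R

theorem c21_20 (t u : K) : r 21 u * r 20 t = r 20 t * r 21 u :=
  swap_nil (by decide) (by decide) (by decide +kernel) t u

theorem c21_20' (t u : K) (R : GL chevD4.Idx K) : r 21 u * (r 20 t * R) = (r 20 t * r 21 u) * R :=
  under (c21_20 t u) R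

theorem c22_20 (t u : K) : r 22 u * r 20 t = r 20 t * r 22 u :=
  swap_nil (by decide) (by decide) (by decide +kernel) t u

theorem c22_20' (t u : K) (R : GL chevD4.Idx K) : r 22 u * (r 20 t * R) = (r 20 t * r 22 u) * R :=
  under (c22_20 t u) R

theorem c23_20 (t u : K) : r 23 u * r 20 t = r 20 t * r 23 u :=
  swap_nil (by decide) (by decide) (by decide +kernel) t u

theorem c23_20' (t u : K) (R : GL chevD4.Idx K) : r 23 u * (r 20 t * R) = (r 20 t * r 23 u) * R :=
  under (c23_20 t u) R

theorem c22_21 (t u : K) : r 22 u * r 21 t = r 21 t * r 22 u :=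
  swap_nil (by decide) (by decide) (by decide +kernel) t u

theorem c22_21' (t u : K) (R : GL chevD4.Idx K) : r 22 u * (r 21 t * R) = (r 21 t * r 22 u) * R :=
  under (c22_21 t u) R

theorem c23_21 (t u : K) : r 23 u * r 21 t = r 21 t * r 23 u :=
  swap_nil (by decide) (by decide) (by decide +kernel) t u

theorem c23_21' (t u : K) (R : GL chevD4.Idx K) : r 23 u * (r 21 t * R) = (r 21 t * r 23 u) * R :=
  under (c23_21 t u) R

theorem c23_22 (t u : K) : r 23 u * r 22 t = r 22 t * r 23 u :=
  swap_nil (by decide) (by decide) (by decide +kernel) t u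

theorem c23_22' (t u : K) (R : GL chevD4.Idx K) : r 23 u * (r 22 t * R) = (r 22 t * r 23 u) * R :=
  under (c23_22 t u) R

end CfsgLib.TrialityInvol
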