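import Cfsg.Agent.GraphTwist.Bruhat
import Mathlib.GroupTheory.PGroup
import Mathlib.FieldTheory.Finite.Basic

/-!
# Every element of p-power order of a graph-twisted group is conjugate into `U¹`

The group `U¹` fixes only the base point among the cosets of `B¹`, so their number is prime to `p`;
an element of p-power order therefore fixes a coset, and the elements of p-power order of
`B¹ = U¹ H¹` lie in `U¹`.
-/

set_option autoImplicit false

namespace CfsgLib.GraphTwist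

open Cfsg.Lie CfsgLib.Chevalley

namespace FieldTwist

variable {D : ChevalleyDatum} {τ : Setup D} {K : Type*} [Field K] (Φ : FieldTwist τ K)

theorem mem_H₀_of_conj_le [Finite K] (hθ : τ.Faithful) {m : GL D.Idx K} (hm : m ∈ Φ.M₀)
    (hle : ∀ v ∈ Φ.U1, m * v * m⁻¹ ∈ D.borelSubgroup K) : m ∈ Φ.H₀ := by
  classical
  obtain ⟨w, hw⟩ : ∃ w, MonBy τ.good m (τ.rootGood.rootPerm w) :=
    ⟨_, monBy_weylHom τ.good τ.rootGood ⟨m, Φ.M₀_le_monomial hm⟩⟩
  have hpos : ∀ r : Root D, half D ≤ (r : ℕ) → half D ≤ (τ.rootGood.rootPerm w r : ℕ) := by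
    intro r hr
    by_contra hn
    obtain ⟨c, hc⟩ := Φ.conj_oX hw (Φ.M₀_le_fix hm) r
    obtain ⟨-, e⟩ := hc 1 (Φ.adm_one r)
    have h1 : m * Φ.oX r 1 * m⁻¹ ∈ D.borelSubgroup K ⊓ D.negUnipotent K :=
      Subgroup.mem_inf.2 ⟨hle _ (Subgroup.mem_inf.2
        ⟨Φ.oX_mem_pos hr 1, Φ.oX_mem_fix (Φ.adm_one r)⟩),
        by rw [e]; exact Φ.oX_mem_neg (Nat.lt_of_not_le hn) _⟩
    rw [borel_inf_neg τ.good, Subgroup.mem_bot, conj_eq_one_iff] at h1
    exact one_ne_zero (Φ.oX_injective hr (h1.trans (Φ.oX_zero r).symm))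
  have hP : ∀ r : Fin D.nroots, Weyl.PosIdx r ↔ half D ≤ (r : ℕ) := fun r =>
    posIdx_iff τ.good.good τ.rootGood r
  obtain rfl : w = 1 := by
    refine τ.rootGood.eq_one_of_invSet_empty ?_
    ext r
    simp only [Weyl.RootGood.mem_invSet, Finset.notMem_empty, iff_false, not_and, not_not]
    exact fun hr => (hP _).2 (hpos r ((hP r).1 hr))
  exact Φ.mem_H₀_of_monBy_one hθ hm (by rwa [map_one] at hw)

theorem pow_card_sub_one_of_mem_diag [Fintype K] (hW : GoodWeyl D) {h : GL D.Idx K}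
    (hh : h ∈ D.diagonalSubgroup K) : h ^ (Fintype.card K - 1) = 1 := by
  rw [diagonalSubgroup_eq_range hW] at hh
  obtain ⟨c, rfl⟩ := hh
  rw [← map_pow, show c ^ (Fintype.card K - 1) = 1 from funext fun i => by
    refine Units.ext ?_
    rw [Pi.pow_apply, Units.val_pow_eq_pow_val, FiniteField.pow_card_sub_one_eq_one _ (c i).ne_zero]
    rfl, map_one]

theorem exists_conj_mem_U1 [Fintype K] (hθ : τ.Faithful) (p : ℕ) [Fact p.Prime] [CharP K p]
    {g : GL D.Idx K} (hg : g ∈ Φ.tG) {k : ℕ} (hgp : g ^ p ^ k = 1) :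
    ∃ x ∈ Φ.tG, x * g * x⁻¹ ∈ Φ.U1 := by
  classical
  have hp := Fact.out (p := p.Prime)
  obtain ⟨n, -, hn⟩ := FiniteField.card K p
  let B := Φ.B1.subgroupOf Φ.tG
  let U := Φ.U1.subgroupOf Φ.tG
  have hU : IsPGroup p ↥U := by
    refine IsPGroup.of_injective (G := ↥(D.posUnipotent K))
      (IsPGroup.of_card (n := (n : ℕ) * half D) ?_)
      { toFun := fun x => ⟨((x : ↥Φ.tG) : GL D.Idx K), x.2.1⟩
        map_one' := rfl
        map_mul' := fun _ _ => rfl } fun a b h => Subtype.ext (Subtype.ext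
          (congrArg (fun z : ↥(D.posUnipotent K) => (z : GL D.Idx K)) h))
    rw [posUnipotent_eq τ.good.good, natCard_uGe τ.good.toGoodUni, Nat.card_eq_fintype_card, hn,
      ← pow_mul]
  have hfix : MulAction.fixedPoints (↥U) (↥Φ.tG ⧸ B) = {QuotientGroup.mk 1} := by
    ext z
    refine QuotientGroup.induction_on z fun a => ⟨fun ha => ?_, ?_⟩
    · obtain ⟨u, hu, m, hm, v, hv, e⟩ := Φ.exists_decomp a.2
      have hmH : m⁻¹ ∈ Φ.H₀ := by
        refine Φ.mem_H₀_of_conj_le hθ (inv_mem hm) fun w hw => ?_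
        let uu : ↥U := ⟨⟨u * w * u⁻¹, Φ.U1_le_tG (mul_mem (mul_mem hu hw) (inv_mem hu))⟩,
          mul_mem (mul_mem hu hw) (inv_mem hu)⟩
        have h1 : (QuotientGroup.mk ((uu : ↥Φ.tG) * a) : ↥Φ.tG ⧸ B) = QuotientGroup.mk a := ha uu
        have h2 : (((uu : ↥Φ.tG) * a)⁻¹ * a : ↥Φ.tG) ∈ B := QuotientGroup.eq.1 h1
        have h3 : (u * w * u⁻¹ * (a : GL D.Idx K))⁻¹ * (a : GL D.Idx K) ∈ D.borelSubgroup K :=
          Φ.B1_le_borel h2
        have h4 := pos_le_borel D hv.1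
        have h5 := mul_mem (mul_mem h4 h3) (inv_mem h4)
        rw [← e] at h5
        rw [inv_inv]
        have h6 := inv_mem h5
        rwa [show (v * ((u * w * u⁻¹ * (u * m * v))⁻¹ * (u * m * v)) * v⁻¹)⁻¹ = m⁻¹ * w * m by
          group] at h6
      refine (QuotientGroup.eq.2 ?_).symm
      show ((1⁻¹ * a : ↥Φ.tG) : GL D.Idx K) ∈ Φ.B1
      rw [inv_one, one_mul, ← e]
      have hmH' : m ∈ Φ.H₀ := by simpa using inv_mem hmH
      exact mul_mem (mul_mem (Subgroup.mem_sup_left hu) (Subgroup.mem_sup_right hmH'))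
        (Subgroup.mem_sup_left hv)
    · intro hz uu
      rw [Set.mem_singleton_iff.1 hz]
      refine QuotientGroup.eq.2 ?_
      show ((((uu : ↥Φ.tG) * 1)⁻¹ * 1 : ↥Φ.tG) : GL D.Idx K) ∈ Φ.B1
      rw [mul_one, mul_one]
      exact Subgroup.mem_sup_left (inv_mem uu.2)
  have hcard : ¬ p ∣ Nat.card (↥Φ.tG ⧸ B) := by
    intro hd
    have h1 := hU.card_modEq_card_fixedPoints (↥Φ.tG ⧸ B)
    rw [hfix] at h1
    simp only [Nat.card_eq_fintype_card, Fintype.card_unique] at h1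
    rw [← Nat.card_eq_fintype_card] at h1
    have h2 : (1 : ℕ) % p = 0 := (show _ % p = 1 % p from h1).symm.trans (Nat.mod_eq_zero_of_dvd hd)
    rw [Nat.one_mod_eq_zero_iff] at h2
    exact hp.one_lt.ne' h2
  have hz : IsPGroup p ↥(Subgroup.zpowers (⟨g, hg⟩ : ↥Φ.tG)) := by
    obtain ⟨j, -, hj⟩ := (Nat.dvd_prime_pow hp).1
      (orderOf_dvd_of_pow_eq_one (show (⟨g, hg⟩ : ↥Φ.tG) ^ p ^ k = 1 from Subtype.ext hgp))
    exact IsPGroup.of_card (n := j) (by rw [Nat.card_zpowers, hj])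
  obtain ⟨z, hz1⟩ := hz.nonempty_fixed_point_of_prime_not_dvd_card (↥Φ.tG ⧸ B) hcard
  obtain ⟨a, rfl⟩ := QuotientGroup.mk_surjective z
  have h1 : (QuotientGroup.mk (⟨g, hg⟩ * a) : ↥Φ.tG ⧸ B) = QuotientGroup.mk a :=
    hz1 ⟨⟨g, hg⟩, Subgroup.mem_zpowers _⟩
  have h2 : (a : GL D.Idx K)⁻¹ * g * a ∈ Φ.B1 := by
    have h := inv_mem (Subgroup.mem_subgroupOf.1 (QuotientGroup.eq.1 h1))
    have e : ((((⟨g, hg⟩ * a)⁻¹ * a : ↥Φ.tG) : GL D.Idx K))⁻¹ =
        (a : GL D.Idx K)⁻¹ * g * a := by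
      push_cast
      group
    rwa [e] at h
  refine ⟨(a : GL D.Idx K)⁻¹, inv_mem a.2, ?_⟩
  rw [inv_inv]
  obtain ⟨u, hu, h, hh, e⟩ := Φ.mem_B1_iff.1 h2
  suffices h = 1 by rw [← e, this, mul_one]; exact hu
  have hx : (u * h) ^ p ^ k = 1 := by
    rw [e]
    have := conj_pow (a := (a : GL D.Idx K)⁻¹) (b := g) (i := p ^ k)
    rw [inv_inv] at this
    rw [this, hgp, mul_one, inv_mul_cancel]
  have hdec : ∀ i : ℕ, ∃ u' ∈ Φ.U1, (u * h) ^ i = u' * h ^ i := by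
    intro i
    induction i with
    | zero => exact ⟨1, one_mem _, by simp⟩
    | succ i ih =>
      obtain ⟨u', hu', hi⟩ := ih
      refine ⟨u' * (h ^ i * u * (h ^ i)⁻¹), mul_mem hu' (Φ.H₀_conj_U1 (pow_mem hh i) hu), ?_⟩
      rw [pow_succ, hi, pow_succ]
      group
  obtain ⟨u', hu', hi⟩ := hdec (p ^ k)
  rw [hx] at hi
  have h3 : h ^ p ^ k ∈ D.posUnipotent K ⊓ D.diagonalSubgroup K := by
    refine Subgroup.mem_inf.2 ⟨?_, pow_mem (Φ.H₀_le_diag hh) _⟩
    rw [show h ^ p ^ k = u'⁻¹ from (inv_eq_of_mul_eq_one_right hi.symm).symm]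
    exact inv_mem hu'.1
  rw [pos_inf_diag τ.good, Subgroup.mem_bot] at h3
  have h4 := pow_gcd_eq_one.2 ⟨h3, pow_card_sub_one_of_mem_diag τ.good (Φ.H₀_le_diag hh)⟩
  have hcop : (p ^ k).gcd (Fintype.card K - 1) = 1 := by
    refine Nat.Coprime.pow_left k (hp.coprime_iff_not_dvd.2 fun hd => ?_)
    have hpq : p ∣ Fintype.card K := by rw [hn]; exact dvd_pow_self p n.pos.ne'
    have h5 := Nat.dvd_sub hpq hd
    have h6 : 1 ≤ Fintype.card K := Fintype.card_pos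
    rw [show Fintype.card K - (Fintype.card K - 1) = 1 by omega] at h5
    exact hp.one_lt.ne' (Nat.dvd_one.1 h5)
  rwa [hcop, pow_one] at h4

end FieldTwist

end CfsgLib.GraphTwist
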