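import Cfsg.Agent.TrialityInvol.Group

/-!
# Normal form in the positive unipotent subgroup of the triality group
-/

set_option autoImplicit false
set_option linter.unusedSectionVars false
set_option linter.unusedSimpArgs false

namespace CfsgLib.TrialityInvol

open Cfsg.Lie CfsgLib.Chevalley CfsgLib.GraphTwist

variable {K : Type*} [Field K] [CharP K 2] (Φ : FieldTwist setupD4 K)

theorem norb_eq : setupD4.norb = 6 := rfl

/-- The root at a given place. -/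
theorem rep_data :
    setupD4.rep ⟨0, by decide⟩ = rt 12 ∧ setupD4.rep ⟨1, by decide⟩ = rt 14 ∧
    setupD4.rep ⟨2, by decide⟩ = rt 15 ∧ setupD4.rep ⟨3, by decide⟩ = rt 17 ∧
    setupD4.rep ⟨4, by decide⟩ = rt 22 ∧ setupD4.rep ⟨5, by decide⟩ = rt 23 := by
  decide +kernel

theorem oX_rep_mem_tail (i : Fin setupD4.norb) (t : K) :
    Φ.oX (setupD4.rep i) t ∈ setupD4.uT K (i : ℕ) :=
  rootGen_mono _ (setupD4.orb_subset_tail (setupD4.rep_pos i)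
    (setupD4.orbPos_eq (setupD4.self_mem_orb _)).ge) (Φ.oX_mem_rootGen _ t)

theorem head_zero [Finite K] (i : Fin setupD4.norb) {t : K} {z : GL chevD4.Idx K}
    (hz : z ∈ setupD4.uT K ((i : ℕ) + 1)) (e : Φ.oX (setupD4.rep i) t * z = 1) : t = 0 := by
  refine Φ.oX_injective (setupD4.rep_pos i) ?_
  rw [Φ.oX_zero]
  refine setupD4.orb_inf_tail i (Φ.oX_mem_rootGen _ t) ?_
  rw [eq_inv_of_mul_eq_one_left e]
  exact inv_mem hz

include Φ

theorem yc_tail (t : K) : yc Φ.f t ∈ setupD4.uT K 2 := by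
  rw [← oX_yc Φ, ← rep_data.2.2.1]; exact oX_rep_mem_tail Φ ⟨2, by decide⟩ t

theorem yd_tail (t : K) : yd Φ.f t ∈ setupD4.uT K 3 := by
  rw [← oX_yd Φ, ← rep_data.2.2.2.1]; exact oX_rep_mem_tail Φ ⟨3, by decide⟩ t

theorem ye_tail (t : K) : ye t ∈ setupD4.uT K 4 := by
  rw [← oX_ye Φ, ← rep_data.2.2.2.2.1]; exact oX_rep_mem_tail Φ ⟨4, by decide⟩ t

theorem yf_tail (t : K) : yf t ∈ setupD4.uT K 5 := by
  rw [← oX_yf Φ, ← rep_data.2.2.2.2.2]; exact oX_rep_mem_tail Φ ⟨5, by decide⟩ t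

theorem tail4 (c d : K) : ye c * yf d ∈ setupD4.uT K 4 :=
  mul_mem (ye_tail Φ c) (setupD4.uT_anti (by decide) (yf_tail Φ d))

theorem tail3 (v c d : K) : yd Φ.f v * (ye c * yf d) ∈ setupD4.uT K 3 :=
  mul_mem (yd_tail Φ v) (setupD4.uT_anti (by decide) (tail4 Φ c d))

variable [Finite K]

theorem yb_head {t : K} {z : GL chevD4.Idx K} (hz : z ∈ setupD4.uT K 2) (e : yb t * z = 1) :
    t = 0 :=
  head_zero Φ ⟨1, by decide⟩ hz (by rw [rep_data.2.1, oX_yb, e])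

theorem yc_head {t : K} {z : GL chevD4.Idx K} (hz : z ∈ setupD4.uT K 3) (e : yc Φ.f t * z = 1) :
    t = 0 :=
  head_zero Φ ⟨2, by decide⟩ hz (by rw [rep_data.2.2.1, oX_yc, e])

theorem yd_head {t : K} {z : GL chevD4.Idx K} (hz : z ∈ setupD4.uT K 4) (e : yd Φ.f t * z = 1) :
    t = 0 :=
  head_zero Φ ⟨3, by decide⟩ hz (by rw [rep_data.2.2.2.1, oX_yd, e])

theorem ye_head {t : K} {z : GL chevD4.Idx K} (hz : z ∈ setupD4.uT K 5) (e : ye t * z = 1) :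
    t = 0 :=
  head_zero Φ ⟨4, by decide⟩ hz (by rw [rep_data.2.2.2.2.1, oX_ye, e])

theorem yf_head {t : K} (e : yf t = 1) : t = 0 :=
  head_zero Φ ⟨5, by decide⟩ (one_mem _) (by rw [rep_data.2.2.2.2.2, oX_yf, mul_one, e])

theorem pair_eq_zero {c d : K} (e : ye c * yf d = 1) : c = 0 ∧ d = 0 := by
  obtain rfl := ye_head Φ (yf_tail Φ d) e
  rw [ye_zero, one_mul] at e
  exact ⟨rfl, yf_head Φ e⟩

theorem psi_pair (c d : K) : Φ.Ψ (ye c * yf d) = ye (Φ.f c) * yf (Φ.f d) := by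
  rw [map_mul, ye, yf, r, r, Φ.Ψ_X, Φ.Ψ_X,
    intCast_unit (setupD4.valid.ok.root (rt 22).2).2.2.2.2.1,
    intCast_unit (setupD4.valid.ok.root (rt 23).2).2.2.2.2.1, one_mul, one_mul,
    show setupD4.σR (⟨(22 : Fin 24).1, (22 : Fin 24).2⟩ : Root chevD4) = rt 22 from fix_data.1.2.1,
    show setupD4.σR (⟨(23 : Fin 24).1, (23 : Fin 24).2⟩ : Root chevD4) = rt 23 from fix_data.1.2.2]
  rfl

/-- The parameters of a fixed element at the fixed orbits are fixed. -/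
theorem fixed_of_mem {c d : K} (h : ye c * yf d ∈ Φ.fix) : Φ.f c = c ∧ Φ.f d = d := by
  have h1 := (psi_pair Φ c d).symm.trans (Φ.mem_fix.1 h)
  have h2 : ye (Φ.f c + c) * yf (Φ.f d + d) = 1 := by
    have h3 := congrArg (fun z => z * (ye c * yf d)) h1
    simpa only [mul_assoc, fe', yf_add, ye_add', CharTwo.add_self_eq_zero, ye_zero, yf_zero,
      one_mul] using h3
  obtain ⟨hc, hd⟩ := pair_eq_zero Φ h2
  exact ⟨CharTwo.add_eq_zero.1 hc, CharTwo.add_eq_zero.1 hd⟩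

theorem exists_form {g : GL chevD4.Idx K} (hg : g ∈ Φ.U1) :
    ∃ e p u v c d : K, Φ.f e = e ∧ Φ.f c = c ∧ Φ.f d = d ∧
      g = yb e * (ya Φ.f p * (yc Φ.f u * (yd Φ.f v * (ye c * yf d)))) := by
  have h0 : g ∈ Φ.u1 0 := by
    rw [FieldTwist.u1, setupD4.uT_zero]
    exact hg
  obtain ⟨p, -, g1, h1, rfl⟩ := Φ.exists_split_u1 ⟨0, by decide⟩ h0
  obtain ⟨e, he, g2, h2, rfl⟩ := Φ.exists_split_u1 ⟨1, by decide⟩ h1
  obtain ⟨u, -, g3, h3, rfl⟩ := Φ.exists_split_u1 ⟨2, by decide⟩ h2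
  obtain ⟨v, -, g4, h4, rfl⟩ := Φ.exists_split_u1 ⟨3, by decide⟩ h3
  obtain ⟨c, hc, g5, h5, rfl⟩ := Φ.exists_split_u1 ⟨4, by decide⟩ h4
  obtain ⟨d, hd, g6, h6, rfl⟩ := Φ.exists_split_u1 ⟨5, by decide⟩ h5
  have h6' : g6 = 1 := by
    have h7 : g6 ∈ setupD4.uT K 6 := h6.1
    rw [show (6 : ℕ) = setupD4.norb from norb_eq.symm, setupD4.uT_norb, Subgroup.mem_bot] at h7
    exact h7
  subst h6'
  have he' : Φ.f e = e := he (by rw [rep_data.2.1]; exact fix_data.1.1)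
  rw [rep_data.1, rep_data.2.1, rep_data.2.2.1, rep_data.2.2.2.1, rep_data.2.2.2.2.1,
    rep_data.2.2.2.2.2, oX_ya, oX_yb, oX_yc, oX_yd, oX_ye, oX_yf, mul_one] at hg ⊢
  obtain ⟨u', v', c', d', eq⟩ : ∃ u' v' c' d' : K,
      ya Φ.f p * (yb e * (yc Φ.f u * (yd Φ.f v * (ye c * yf d)))) =
        yb e * (ya Φ.f p * (yc Φ.f u' * (yd Φ.f v' * (ye c' * yf d')))) := by
    simp only [ab' Φ.f (hf3 Φ) p he', mul_assoc, ec, ec', ed, ed', dc, dc', fc, fc', fd, fd',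
      fe, fe', ye_add, ye_add', yf_add, yf_add', yd_add, yd_add', yc_add, yc_add']
    exact ⟨_, _, _, _, rfl⟩
  rw [eq] at hg ⊢
  have hrest : ye c' * yf d' ∈ Φ.fix := by
    have := mul_mem (mul_mem (mul_mem (mul_mem (inv_mem (Subgroup.mem_inf.1 (yd_mem Φ v')).2) (inv_mem (Subgroup.mem_inf.1 (yc_mem Φ u')).2))
      (inv_mem (Subgroup.mem_inf.1 (ya_mem Φ p)).2)) (inv_mem (Subgroup.mem_inf.1 (yb_mem Φ he')).2)) (Subgroup.mem_inf.1 hg).2
    rw [show ∀ b a c d z : GL chevD4.Idx K, d⁻¹ * c⁻¹ * a⁻¹ * b⁻¹ * (b * (a * (c * (d * z)))) = z from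
      fun b a c d z => by group] at this
    exact this
  exact ⟨e, p, u', v', c', d', he', (fixed_of_mem Φ hrest).1, (fixed_of_mem Φ hrest).2, rfl⟩

end CfsgLib.TrialityInvol
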