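import Cfsg.Agent.TrialityInvol.Relations
import Cfsg.Agent.TrialityInvol.Conjugate
import Cfsg.Agent.GraphTwist.DataD4
import Cfsg.Agent.GraphTwist.BN

/-!
# The orbit elements inside the triality group in characteristic two
-/

set_option autoImplicit false
set_option linter.unusedSectionVars false

namespace CfsgLib.TrialityInvol

open Cfsg.Lie CfsgLib.Chevalley CfsgLib.GraphTwist

variable {K : Type*} [Field K]

/-- A root of D4. -/
abbrev rt (k : Fin 24) : Root chevD4 := ⟨k.1, k.2⟩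

theorem hf3 (Φ : FieldTwist setupD4 K) (x : K) : Φ.f (Φ.f (Φ.f x)) = x := Φ.periodic x

theorem intCast_unit [CharP K 2] {z : ℤ} (h : z * z = 1) : (z : K) = 1 := by
  rcases Int.eq_one_or_neg_one_of_mul_eq_one h with e | e <;> simp [e, CharTwo.neg_eq]

theorem tw_char2 [CharP K 2] (Φ : FieldTwist setupD4 K) (j : ℕ) (a : Root chevD4) (t : K) :
    Φ.tw j a t = Φ.f^[j] t := by
  induction j with
  | zero => rfl
  | succ j ih =>
    rw [FieldTwist.tw, ih, Function.iterate_succ_apply',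
      intCast_unit (setupD4.valid.ok.root ((setupD4.σR ^ j) a).2).2.2.2.2.1, one_mul]

theorem orbit_data :
    (setupD4.osize (rt 14) = 1 ∧ setupD4.osize (rt 22) = 1 ∧ setupD4.osize (rt 23) = 1) ∧
    (setupD4.osize (rt 12) = 3 ∧ (setupD4.σR ^ 1) (rt 12) = rt 18 ∧
      (setupD4.σR ^ 2) (rt 12) = rt 13) ∧
    (setupD4.osize (rt 15) = 3 ∧ (setupD4.σR ^ 1) (rt 15) = rt 19 ∧
      (setupD4.σR ^ 2) (rt 15) = rt 16) ∧
    (setupD4.osize (rt 17) = 3 ∧ (setupD4.σR ^ 1) (rt 17) = rt 20 ∧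
      (setupD4.σR ^ 2) (rt 17) = rt 21) := by
  decide +kernel

theorem fix_data :
    (setupD4.σR (rt 14) = rt 14 ∧ setupD4.σR (rt 22) = rt 22 ∧ setupD4.σR (rt 23) = rt 23) ∧
    (setupD4.σR (rt 12) ≠ rt 12 ∧ setupD4.σR (rt 15) ≠ rt 15 ∧ setupD4.σR (rt 17) ≠ rt 17) := by
  decide +kernel

variable (Φ : FieldTwist setupD4 K)

theorem oX_fixed {a : Fin 24} (h : setupD4.osize (rt a) = 1) (t : K) :
    Φ.oX (rt a) t = r a t := by
  rw [FieldTwist.oX, h]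
  simp [List.range_succ, r]

variable [CharP K 2]

theorem oX_triple {a b c : Fin 24} (h : setupD4.osize (rt a) = 3)
    (hb : (setupD4.σR ^ 1) (rt a) = rt b) (hc : (setupD4.σR ^ 2) (rt a) = rt c) (t : K) :
    Φ.oX (rt a) t = r a t * (r b (Φ.f t) * r c (Φ.f (Φ.f t))) := by
  rw [FieldTwist.oX, h]
  simp only [List.range_succ, List.range_zero, List.nil_append, List.cons_append, List.map_cons,
    List.map_nil, List.prod_cons, List.prod_nil, mul_one, Φ.Ψ_pow_X, tw_char2, hb, hc]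
  rfl

theorem oX_yb (t : K) : Φ.oX (rt 14) t = yb t := oX_fixed Φ orbit_data.1.1 t
theorem oX_ye (t : K) : Φ.oX (rt 22) t = ye t := oX_fixed Φ orbit_data.1.2.1 t
theorem oX_yf (t : K) : Φ.oX (rt 23) t = yf t := oX_fixed Φ orbit_data.1.2.2 t

theorem oX_ya (t : K) : Φ.oX (rt 12) t = ya Φ.f t :=
  oX_triple Φ orbit_data.2.1.1 orbit_data.2.1.2.1 orbit_data.2.1.2.2 t

theorem oX_yc (t : K) : Φ.oX (rt 15) t = yc Φ.f t :=
  oX_triple Φ orbit_data.2.2.1.1 orbit_data.2.2.1.2.1 orbit_data.2.2.1.2.2 t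

theorem oX_yd (t : K) : Φ.oX (rt 17) t = yd Φ.f t :=
  oX_triple Φ orbit_data.2.2.2.1 orbit_data.2.2.2.2.1 orbit_data.2.2.2.2.2 t

theorem pos_rt {a : Fin 24} (h : 12 ≤ a.1) : half chevD4 ≤ ((rt a : Root chevD4) : ℕ) := h

theorem oX_mem_U1 {a : Fin 24} (h : 12 ≤ a.1) {t : K} (ht : Φ.Adm (rt a) t) :
    Φ.oX (rt a) t ∈ Φ.U1 :=
  Subgroup.mem_inf.2 ⟨Φ.oX_mem_pos (pos_rt h) t, Φ.oX_mem_fix ht⟩

theorem yb_mem {e : K} (he : Φ.f e = e) : yb e ∈ Φ.U1 :=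
  oX_yb Φ e ▸ oX_mem_U1 Φ (by decide) (fun _ => he)

theorem ye_mem {e : K} (he : Φ.f e = e) : ye e ∈ Φ.U1 :=
  oX_ye Φ e ▸ oX_mem_U1 Φ (by decide) (fun _ => he)

theorem yf_mem {e : K} (he : Φ.f e = e) : yf e ∈ Φ.U1 :=
  oX_yf Φ e ▸ oX_mem_U1 Φ (by decide) (fun _ => he)

theorem ya_mem (t : K) : ya Φ.f t ∈ Φ.U1 :=
  oX_ya Φ t ▸ oX_mem_U1 Φ (by decide) (fun h => absurd h fix_data.2.1)

theorem yc_mem (t : K) : yc Φ.f t ∈ Φ.U1 :=
  oX_yc Φ t ▸ oX_mem_U1 Φ (by decide) (fun h => absurd h fix_data.2.2.1)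

theorem yd_mem (t : K) : yd Φ.f t ∈ Φ.U1 :=
  oX_yd Φ t ▸ oX_mem_U1 Φ (by decide) (fun h => absurd h fix_data.2.2.2)

/-- Conjugation by a fixed element, read off one root element of the orbit. -/
theorem conj_oX_of {g : GL chevD4.Idx K} (hg : g ∈ Φ.fix) {a b : Root chevD4}
    (hsz : setupD4.osize b = setupD4.osize a) {t s : K}
    (h : g * X setupD4.good.good a t * g⁻¹ = X setupD4.good.good b s) :
    g * Φ.oX a t * g⁻¹ = Φ.oX b s := by
  rw [FieldTwist.oX, FieldTwist.oX, hsz, ← h, ← MulAut.conj_apply, map_list_prod, List.map_map]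
  refine congrArg List.prod (List.map_congr_left fun j _ => ?_)
  rw [Function.comp_apply, MulAut.conj_apply, map_mul, map_mul, map_inv, Φ.pow_apply_fix hg]

theorem list_nR_conj (L : List (Fin chevD4.rank)) (a : Root chevD4) (t : K) :
    (L.map fun i => (nR setupD4.good i : GL chevD4.Idx K)).prod * X setupD4.good.good a t *
      ((L.map fun i => (nR setupD4.good i : GL chevD4.Idx K)).prod)⁻¹ =
      X setupD4.good.good ((L.map (wPerm setupD4.good)).prod a) t := by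
  induction L with
  | nil => simp
  | cons i L ih =>
    rw [List.map_cons, List.prod_cons, List.map_cons, List.prod_cons, Equiv.Perm.mul_apply,
      show ∀ n m z : GL chevD4.Idx K, n * m * z * (n * m)⁻¹ = n * (m * z * m⁻¹) * n⁻¹ from
        fun n m z => by group, ih, nR_conj, intCast_unit (setupD4.good.eta_sq i _), one_mul]

theorem nO_conj_oX (o : Fin setupD4.cfg.m) {a : Root chevD4} {t : K} (b : Root chevD4)
    (h : setupD4.wR o a = b) (hsz : setupD4.osize b = setupD4.osize a) :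
    Φ.nO o * Φ.oX a t * (Φ.nO o)⁻¹ = Φ.oX b t := by
  refine conj_oX_of Φ (Φ.nO_mem_fix o) hsz ?_
  rw [Φ.nO_eq, list_nR_conj, ← h]
  rfl

/-- The reflection of the short node. -/
def na : GL chevD4.Idx K := Φ.nO ⟨0, by decide⟩

/-- The reflection of the long node. -/
def nb : GL chevD4.Idx K := Φ.nO ⟨1, by decide⟩

theorem refl_data :
    (setupD4.wR ⟨0, by decide⟩ (rt 14) = rt 22 ∧ setupD4.wR ⟨0, by decide⟩ (rt 22) = rt 14 ∧
      setupD4.wR ⟨0, by decide⟩ (rt 23) = rt 23) ∧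
    (setupD4.wR ⟨0, by decide⟩ (rt 15) = (setupD4.σR ^ 2) (rt 17) ∧
      setupD4.wR ⟨0, by decide⟩ (rt 17) = (setupD4.σR ^ 1) (rt 15)) ∧
    (setupD4.wR ⟨1, by decide⟩ (rt 12) = rt 15 ∧ setupD4.wR ⟨1, by decide⟩ (rt 15) = rt 12 ∧
      setupD4.wR ⟨1, by decide⟩ (rt 17) = rt 17) ∧
    (setupD4.wR ⟨1, by decide⟩ (rt 22) = rt 23 ∧ setupD4.wR ⟨1, by decide⟩ (rt 23) = rt 22) ∧
    (setupD4.osize ((setupD4.σR ^ 2) (rt 17)) = 3 ∧
      setupD4.osize ((setupD4.σR ^ 1) (rt 15)) = 3) := by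
  decide +kernel

theorem na_mem [Finite K] : na Φ ∈ Φ.tG := Φ.nO_mem_tG _
theorem nb_mem [Finite K] : nb Φ ∈ Φ.tG := Φ.nO_mem_tG _

theorem na_yb (t : K) : na Φ * yb t * (na Φ)⁻¹ = ye t := by
  rw [← oX_yb Φ, ← oX_ye Φ]
  exact nO_conj_oX Φ _ _ refl_data.1.1 (orbit_data.1.2.1.trans orbit_data.1.1.symm)

theorem na_ye (t : K) : na Φ * ye t * (na Φ)⁻¹ = yb t := by
  rw [← oX_yb Φ, ← oX_ye Φ]
  exact nO_conj_oX Φ _ _ refl_data.1.2.1 (orbit_data.1.1.trans orbit_data.1.2.1.symm)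

theorem na_yf (t : K) : na Φ * yf t * (na Φ)⁻¹ = yf t := by
  rw [← oX_yf Φ]
  exact nO_conj_oX Φ _ _ refl_data.1.2.2 rfl

theorem nb_ye (t : K) : nb Φ * ye t * (nb Φ)⁻¹ = yf t := by
  rw [← oX_yf Φ, ← oX_ye Φ]
  exact nO_conj_oX Φ _ _ refl_data.2.2.2.1.1 (orbit_data.1.2.2.trans orbit_data.1.2.1.symm)

theorem nb_yf (t : K) : nb Φ * yf t * (nb Φ)⁻¹ = ye t := by
  rw [← oX_yf Φ, ← oX_ye Φ]
  exact nO_conj_oX Φ _ _ refl_data.2.2.2.1.2 (orbit_data.1.2.1.trans orbit_data.1.2.2.symm)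

theorem nb_ya (t : K) : nb Φ * ya Φ.f t * (nb Φ)⁻¹ = yc Φ.f t := by
  rw [← oX_ya Φ, ← oX_yc Φ]
  exact nO_conj_oX Φ _ _ refl_data.2.2.1.1 (orbit_data.2.2.1.1.trans orbit_data.2.1.1.symm)

theorem nb_yc (t : K) : nb Φ * yc Φ.f t * (nb Φ)⁻¹ = ya Φ.f t := by
  rw [← oX_ya Φ, ← oX_yc Φ]
  exact nO_conj_oX Φ _ _ refl_data.2.2.1.2.1 (orbit_data.2.1.1.trans orbit_data.2.2.1.1.symm)

theorem nb_yd (t : K) : nb Φ * yd Φ.f t * (nb Φ)⁻¹ = yd Φ.f t := by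
  rw [← oX_yd Φ]
  exact nO_conj_oX Φ _ _ refl_data.2.2.1.2.2 rfl

theorem na_yc (t : K) : na Φ * yc Φ.f t * (na Φ)⁻¹ = yd Φ.f (Φ.f t) := by
  have h := Φ.oX_shift 2 (r := rt 17) (t := Φ.f t) (fun h => absurd h fix_data.2.2.2)
  rw [tw_char2, show Φ.f^[2] (Φ.f t) = t from hf3 Φ t] at h
  rw [← oX_yc Φ, ← oX_yd Φ, ← h]
  exact nO_conj_oX Φ _ _ refl_data.2.1.1 (refl_data.2.2.2.2.1.trans orbit_data.2.2.1.1.symm)

theorem na_yd (t : K) : na Φ * yd Φ.f t * (na Φ)⁻¹ = yc Φ.f (Φ.f (Φ.f t)) := by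
  have h := Φ.oX_shift 1 (r := rt 15) (t := Φ.f (Φ.f t)) (fun h => absurd h fix_data.2.2.1)
  rw [tw_char2, show Φ.f^[1] (Φ.f (Φ.f t)) = t from hf3 Φ t] at h
  rw [← oX_yc Φ, ← oX_yd Φ, ← h]
  exact nO_conj_oX Φ _ _ refl_data.2.1.2 (refl_data.2.2.2.2.2.trans orbit_data.2.2.2.1.symm)

theorem torus_data :
    chevD4.cartan ((setupD4.head ⟨1, by decide⟩ : Fin chevD4.rank) : ℕ) 23 = 1 ∧
    chevD4.cartan ((setupD4.head ⟨0, by decide⟩ : Fin chevD4.rank) : ℕ) 17 = -1 ∧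
    chevD4.cartan (((setupD4.πR ^ 1) (setupD4.head ⟨0, by decide⟩) : Fin chevD4.rank) : ℕ) 17 = 1 ∧
    chevD4.cartan (((setupD4.πR ^ 2) (setupD4.head ⟨0, by decide⟩) : Fin chevD4.rank) : ℕ) 17 = 1 ∧
    setupD4.osize (setupD4.spR ⟨1, by decide⟩) = 1 ∧ setupD4.osize (setupD4.spR ⟨0, by decide⟩) = 3 ∧
    setupD4.σR (setupD4.spR ⟨0, by decide⟩) ≠ setupD4.spR ⟨0, by decide⟩ := by
  decide +kernel

theorem exists_scale_yf [Finite K] {d : K} (hd : Φ.f d = d) (hd0 : d ≠ 0) :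
    ∃ h ∈ Φ.tG, h * yf d * h⁻¹ = yf 1 := by
  let o : Fin setupD4.cfg.m := ⟨1, by decide⟩
  let a : Kˣ := (Units.mk0 d hd0)⁻¹
  have hadm : Φ.AdmU (setupD4.spR o) a := fun _ => Units.ext (by
    show Φ.f ((a : Kˣ) : K) = a
    simp [a, map_inv₀, hd])
  refine ⟨Φ.oH (setupD4.spR o) a, Φ.oH_mem_tG o hadm, ?_⟩
  rw [← oX_yf Φ, ← oX_yf Φ]
  refine conj_oX_of Φ (Φ.oH_mem_fix hadm) rfl ?_
  rw [FieldTwist.oH, torus_data.2.2.2.2.1]
  simp only [List.range_succ, List.range_zero, List.nil_append, List.map_cons, List.map_nil,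
    List.prod_cons, List.prod_nil, mul_one, pow_zero, MulAut.one_apply, hT_pRoot_conj_X]
  congr 1
  rw [show ((rt 23 : Root chevD4) : ℕ) = 23 from rfl, torus_data.1, zpow_one]
  simp [a, hd0]

theorem exists_scale_yd [Finite K] {s : K} (hs : s ≠ 0) :
    ∃ h ∈ Φ.tG, h * yd Φ.f s * h⁻¹ = yd Φ.f 1 := by
  classical
  let o : Fin setupD4.cfg.m := ⟨0, by decide⟩
  let φ : Kˣ →* Kˣ := MonoidHom.mk' (fun a => Φ.fU a * Φ.fU (Φ.fU a) * a⁻¹) fun a b => by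
    simp only [Φ.fU_mul, mul_inv_rev]
    ac_rfl
  have hinj : Function.Injective φ := (injective_iff_map_eq_one φ).2 fun c hc => by
    have h0 : (c : K) ≠ 0 := c.ne_zero
    have e1 : Φ.f (c : K) * Φ.f (Φ.f (c : K)) = c :=
      congrArg Units.val (mul_inv_eq_one.1 (show Φ.fU c * Φ.fU (Φ.fU c) * c⁻¹ = 1 from hc))
    have e2 : Φ.f (Φ.f (c : K)) * c = Φ.f c := by
      have := congrArg Φ.f e1
      rwa [map_mul, hf3] at this
    have e3 : (Φ.f (Φ.f (c : K)) * Φ.f (Φ.f (c : K))) * c = c := by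
      rw [mul_assoc, e2, mul_comm, e1]
    have e4 : Φ.f (Φ.f (c : K)) = 1 := by
      rcases mul_self_eq_one_iff.1 ((mul_eq_right₀ h0).1 e3) with h | h
      · exact h
      · rw [h, CharTwo.neg_eq]
    refine Units.ext (Φ.f.injective (Φ.f.injective ?_))
    rw [e4, Units.val_one, map_one, map_one]
  have : Finite Kˣ := Finite.of_injective (Units.val : Kˣ → K) Units.val_injective
  obtain ⟨a, ha⟩ := Finite.injective_iff_surjective.1 hinj (Units.mk0 s hs)⁻¹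
  have hadm : Φ.AdmU (setupD4.spR o) a := fun h => absurd h torus_data.2.2.2.2.2.2
  refine ⟨Φ.oH (setupD4.spR o) a, Φ.oH_mem_tG o hadm, ?_⟩
  rw [← oX_yd Φ, ← oX_yd Φ]
  refine conj_oX_of Φ (Φ.oH_mem_fix hadm) rfl ?_
  have e : Φ.oH (setupD4.spR o) a =
      hT K (pRoot setupD4.good (setupD4.head o)) a *
        (hT K (pRoot setupD4.good ((setupD4.πR ^ 1) (setupD4.head o))) (Φ.fU a) *
          hT K (pRoot setupD4.good ((setupD4.πR ^ 2) (setupD4.head o))) (Φ.fU (Φ.fU a))) := by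
    rw [FieldTwist.oH, torus_data.2.2.2.2.2.1]
    simp only [List.range_succ, List.range_zero, List.nil_append, List.cons_append, List.map_cons,
      List.map_nil, List.prod_cons, List.prod_nil, mul_one, Φ.Ψ_pow_hT, setupD4.σR_pow_pRoot]
    rfl
  rw [e, show ∀ p q w z : GL chevD4.Idx K, p * (q * w) * z * (p * (q * w))⁻¹ =
    p * (q * (w * z * w⁻¹) * q⁻¹) * p⁻¹ from fun p q w z => by group, hT_pRoot_conj_X,
    hT_pRoot_conj_X, hT_pRoot_conj_X]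
  congr 1
  rw [show ((rt 17 : Root chevD4) : ℕ) = 17 from rfl, torus_data.2.1, torus_data.2.2.1,
    torus_data.2.2.2.1, zpow_one, zpow_one, zpow_neg, zpow_one]
  have := congrArg Units.val ha
  simp only [φ, MonoidHom.mk'_apply, Units.val_mul, Units.val_inv_eq_inv_val, Units.val_mk0] at this
  simp only [Units.val_inv_eq_inv_val]
  rw [← mul_assoc, ← mul_assoc, show ((a : K))⁻¹ * (Φ.fU a : K) * (Φ.fU (Φ.fU a) : K) =
    (Φ.fU a : K) * (Φ.fU (Φ.fU a) : K) * (a : K)⁻¹ by ring, this, inv_mul_cancel₀ hs]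

end CfsgLib.TrialityInvol
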