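import Cfsg.Agent.TrialityInvol.Forms
import Mathlib.FieldTheory.Finite.Basic

/-!
# Involutions of the triality group: reduction to two representatives
-/

set_option autoImplicit false
set_option linter.unusedSectionVars false
set_option linter.unusedSimpArgs false
set_option maxHeartbeats 1000000

namespace CfsgLib.TrialityInvol

open Cfsg.Lie CfsgLib.Chevalley CfsgLib.GraphTwist

variable {K : Type*} [Field K] [Finite K] [CharP K 2] (Φ : FieldTwist setupD4 K)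

/-- Conjugate in the group to a representative. -/
def ToRep (g : GL chevD4.Idx K) : Prop :=
  ∃ h ∈ Φ.tG, h * g * h⁻¹ = yf 1 ∨ h * g * h⁻¹ = yd Φ.f 1

theorem ToRep.of_conj {g k : GL chevD4.Idx K} (hk : k ∈ Φ.tG)
    (h : ToRep Φ (k * g * k⁻¹)) : ToRep Φ g := by
  obtain ⟨m, hm, hr⟩ := h
  refine ⟨m * k, mul_mem hm hk, ?_⟩
  rwa [show m * k * g * (m * k)⁻¹ = m * (k * g * k⁻¹) * m⁻¹ by group]

theorem conj_sq {G : Type*} [Group G] {g k : G} (h : g * g = 1) :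
    k * g * k⁻¹ * (k * g * k⁻¹) = 1 := by
  rw [show k * g * k⁻¹ * (k * g * k⁻¹) = k * (g * g) * k⁻¹ by group, h, mul_one, mul_inv_cancel]

theorem f_pairS (t u : K) : Φ.f (pairS Φ.f t u) = pairS Φ.f t u := by
  simp only [pairS, map_add, map_mul, hf3]
  ring

theorem sq_fixed {μ : K} (h : Φ.f (μ * μ) = μ * μ) : Φ.f μ = μ := by
  rw [map_mul, mul_self_eq_mul_self_iff] at h
  rcases h with h | h
  · exact h
  · rw [h, CharTwo.neg_eq]

/-- An element of `U¹` without the first four components. -/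
theorem fixed_tail {p u v c d : K}
    (h : ya Φ.f p * (yc Φ.f u * (yd Φ.f v * (ye c * yf d))) ∈ Φ.U1) :
    Φ.f c = c ∧ Φ.f d = d := by
  suffices hrest : ye c * yf d ∈ Φ.U1 from fixed_of_mem Φ (Subgroup.mem_inf.1 hrest).2
  have := mul_mem (mul_mem (mul_mem (inv_mem (yd_mem Φ v)) (inv_mem (yc_mem Φ u)))
    (inv_mem (ya_mem Φ p))) h
  rwa [show ∀ a c d z : GL chevD4.Idx K, d⁻¹ * c⁻¹ * a⁻¹ * (a * (c * (d * z))) = z from
    fun a c d z => by group] at this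

theorem toRep_long {c d : K} (hc : Φ.f c = c) (hd : Φ.f d = d) (h0 : ye c * yf d ≠ 1) :
    ToRep Φ (ye c * yf d) := by
  by_cases hc0 : c = 0
  · subst hc0
    rw [ye_zero, one_mul] at h0 ⊢
    obtain ⟨h, hh, e⟩ := exists_scale_yf Φ hd fun e => h0 (by rw [e, yf_zero])
    exact ⟨h, hh, Or.inl e⟩
  · refine ToRep.of_conj Φ (Φ.U1_le_tG (yb_mem Φ (e := d / c) (by rw [map_div₀, hc, hd]))) ?_
    have e : yb (d / c) * (ye c * yf d) * (yb (d / c))⁻¹ = ye c := by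
      simp only [mul_inv_rev, ya_inv, yb_inv, yc_inv, yd_inv, ye_inv, yf_inv, mul_assoc, ca Φ.f (hf3 Φ), ca' Φ.f (hf3 Φ), da, da', dc, dc', eb, eb', cb, cb', db, db', fb, fb', ea, ea', fa, fa', ec, ec', ed, ed', fc, fc', fd, fd', fe, fe', ya_add, ya_add', yb_add, yb_add', yc_add, yc_add', yd_add, yd_add', ye_add, ye_add', yf_add, yf_add', CharTwo.add_self_eq_zero, ya_zero, yb_zero, yc_zero, yd_zero, ye_zero, yf_zero, one_mul, mul_one]
      simp [div_mul_cancel₀ d hc0, yf_zero, CharTwo.add_self_eq_zero]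
    rw [e]
    refine ToRep.of_conj Φ (nb_mem Φ) ?_
    rw [nb_ye]
    obtain ⟨h, hh, e⟩ := exists_scale_yf Φ hc hc0
    exact ⟨h, hh, Or.inl e⟩

theorem exists_pairS {s c : K} (hs : s ≠ 0) (hc : Φ.f c = c) :
    ∃ w, pairS Φ.f w s = c := by
  have h1 : Φ.f s ≠ 0 := (map_ne_zero Φ.f).2 hs
  have h2 : Φ.f (Φ.f s) ≠ 0 := (map_ne_zero Φ.f).2 h1
  refine ⟨c / Φ.f (Φ.f s), ?_⟩
  simp only [pairS, map_div₀, hc, hf3, div_mul_cancel₀ c hs, div_mul_cancel₀ c h1,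
    div_mul_cancel₀ c h2, CharTwo.add_self_eq_zero, add_zero]

theorem toRep_short {s c d : K} (hs : s ≠ 0) (hc : Φ.f c = c) (hd : Φ.f d = d) :
    ToRep Φ (yd Φ.f s * (ye c * yf d)) := by
  obtain ⟨w, hw⟩ := exists_pairS Φ hs hc
  obtain ⟨z, hz⟩ := exists_pairS Φ hs hd
  refine ToRep.of_conj Φ (Φ.U1_le_tG (ya_mem Φ w)) ?_
  have e : ya Φ.f w * (yd Φ.f s * (ye c * yf d)) * (ya Φ.f w)⁻¹ = yd Φ.f s * yf d := by
    simp only [mul_inv_rev, ya_inv, yb_inv, yc_inv, yd_inv, ye_inv, yf_inv, mul_assoc, ca Φ.f (hf3 Φ), ca' Φ.f (hf3 Φ), da, da', dc, dc', eb, eb', cb, cb', db, db', fb, fb', ea, ea', fa, fa', ec, ec', ed, ed', fc, fc', fd, fd', fe, fe', ya_add, ya_add', yb_add, yb_add', yc_add, yc_add', yd_add, yd_add', ye_add, ye_add', yf_add, yf_add', CharTwo.add_self_eq_zero, ya_zero, yb_zero, yc_zero, yd_zero, ye_zero, yf_zero, one_mul, mul_one, hw]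
  rw [e]
  refine ToRep.of_conj Φ (Φ.U1_le_tG (yc_mem Φ z)) ?_
  have e' : yc Φ.f z * (yd Φ.f s * yf d) * (yc Φ.f z)⁻¹ = yd Φ.f s := by
    simp only [mul_inv_rev, ya_inv, yb_inv, yc_inv, yd_inv, ye_inv, yf_inv, mul_assoc, ca Φ.f (hf3 Φ), ca' Φ.f (hf3 Φ), da, da', dc, dc', eb, eb', cb, cb', db, db', fb, fb', ea, ea', fa, fa', ec, ec', ed, ed', fc, fc', fd, fd', fe, fe', ya_add, ya_add', yb_add, yb_add', yc_add, yc_add', yd_add, yd_add', ye_add, ye_add', yf_add, yf_add', CharTwo.add_self_eq_zero, ya_zero, yb_zero, yc_zero, yd_zero, ye_zero, yf_zero, one_mul, mul_one, hz]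
  rw [e']
  obtain ⟨h, hh, e⟩ := exists_scale_yd Φ hs
  exact ⟨h, hh, Or.inr e⟩

/-- Involutions with nonzero component at `a` and none at `b`. -/
theorem toRep_of_a {p u v c d : K} (hp : p ≠ 0)
    (hU : ya Φ.f p * (yc Φ.f u * (yd Φ.f v * (ye c * yf d))) ∈ Φ.U1)
    (h2 : ya Φ.f p * (yc Φ.f u * (yd Φ.f v * (ye c * yf d))) *
      (ya Φ.f p * (yc Φ.f u * (yd Φ.f v * (ye c * yf d)))) = 1) :
    ToRep Φ (ya Φ.f p * (yc Φ.f u * (yd Φ.f v * (ye c * yf d)))) := by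
  have hp1 : Φ.f p ≠ 0 := (map_ne_zero Φ.f).2 hp
  have hp2 : Φ.f (Φ.f p) ≠ 0 := (map_ne_zero Φ.f).2 hp1
  have hP : pairP Φ.f p u = 0 := by
    have h3 := h2
    obtain ⟨c', d', e⟩ : ∃ c' d', ya Φ.f p * (yc Φ.f u * (yd Φ.f v * (ye c * yf d))) *
        (ya Φ.f p * (yc Φ.f u * (yd Φ.f v * (ye c * yf d)))) =
          yd Φ.f (pairP Φ.f p u) * (ye c' * yf d') := by
      simp only [mul_inv_rev, ya_inv, yb_inv, yc_inv, yd_inv, ye_inv, yf_inv, mul_assoc, ca Φ.f (hf3 Φ), ca' Φ.f (hf3 Φ), da, da', dc, dc', eb, eb', cb, cb', db, db', fb, fb', ea, ea', fa, fa', ec, ec', ed, ed', fc, fc', fd, fd', fe, fe', ya_add, ya_add', yb_add, yb_add', yc_add, yc_add', yd_add, yd_add', ye_add, ye_add', yf_add, yf_add', CharTwo.add_self_eq_zero, ya_zero, yb_zero, yc_zero, yd_zero, ye_zero, yf_zero, one_mul, mul_one]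
      exact ⟨_, _, rfl⟩
    rw [e] at h3
    exact yd_head Φ (tail4 Φ c' d') h3
  set w := u / p with hwdef
  have hw : Φ.f w = w := by
    have h3 : Φ.f (Φ.f w) = w := by
      rw [pairP, CharTwo.add_eq_zero] at hP
      rw [hwdef, map_div₀, map_div₀, div_eq_div_iff hp2 hp, mul_comm _ p, ← hP, mul_comm]
    conv_lhs => rw [← h3]
    rw [hf3]
  refine ToRep.of_conj Φ (Φ.U1_le_tG (yb_mem Φ hw)) ?_
  obtain ⟨v', c', d', e⟩ : ∃ v' c' d', yb w * (ya Φ.f p * (yc Φ.f u * (yd Φ.f v * (ye c * yf d)))) *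
      (yb w)⁻¹ = ya Φ.f p * (yc Φ.f 0 * (yd Φ.f v' * (ye c' * yf d'))) := by
    simp only [ab' Φ.f (hf3 Φ) p hw, mul_inv_rev, ya_inv, yb_inv, yc_inv, yd_inv, ye_inv, yf_inv, mul_assoc, ca Φ.f (hf3 Φ), ca' Φ.f (hf3 Φ), da, da', dc, dc', eb, eb', cb, cb', db, db', fb, fb', ea, ea', fa, fa', ec, ec', ed, ed', fc, fc', fd, fd', fe, fe', ya_add, ya_add', yb_add, yb_add', yc_add, yc_add', yd_add, yd_add', ye_add, ye_add', yf_add, yf_add', CharTwo.add_self_eq_zero, ya_zero, yb_zero, yc_zero, yd_zero, ye_zero, yf_zero, one_mul, mul_one]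
    simp only [hwdef, div_mul_cancel₀ u hp, CharTwo.add_self_eq_zero, yc_zero, one_mul, mul_one]
    exact ⟨_, _, _, rfl⟩
  have h3 := conj_sq (k := yb w) h2
  have hU' := mul_mem (mul_mem (yb_mem Φ hw) hU) (inv_mem (yb_mem Φ hw))
  rw [e] at h3 hU' ⊢
  obtain ⟨hc', hd'⟩ := fixed_tail Φ hU'
  have hS : pairS Φ.f p v' = 0 := by
    simp only [mul_inv_rev, ya_inv, yb_inv, yc_inv, yd_inv, ye_inv, yf_inv, mul_assoc, ca Φ.f (hf3 Φ), ca' Φ.f (hf3 Φ), da, da', dc, dc', eb, eb', cb, cb', db, db', fb, fb', ea, ea', fa, fa', ec, ec', ed, ed', fc, fc', fd, fd', fe, fe', ya_add, ya_add', yb_add, yb_add', yc_add, yc_add', yd_add, yd_add', ye_add, ye_add', yf_add, yf_add', CharTwo.add_self_eq_zero, ya_zero, yb_zero, yc_zero, yd_zero, ye_zero, yf_zero, one_mul, mul_one] at h3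
    exact ye_head Φ (one_mem _) (by rw [mul_one, h3])
  -- remove the component at `2a + b`
  set N := p * (Φ.f p * Φ.f (Φ.f p)) with hN
  have hN0 : N ≠ 0 := mul_ne_zero hp (mul_ne_zero hp1 hp2)
  have hNf : Φ.f N = N := by rw [hN, map_mul, map_mul, hf3]; ring
  set ν := v' / (p * Φ.f (Φ.f p)) with hν
  have hv : v' = p * Φ.f (Φ.f p) * ν := by rw [hν, mul_div_cancel₀ v' (mul_ne_zero hp hp2)]
  have htr : Φ.f ν + Φ.f (Φ.f ν) = ν := by
    have h4 : N * (ν + (Φ.f ν + Φ.f (Φ.f ν))) = 0 := by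
      rw [← hS, hv, pairS, hN]
      simp only [map_mul, hf3]
      ring
    exact (CharTwo.add_eq_zero.1 ((mul_eq_zero.1 h4).resolve_left hN0)).symm
  have hP' : pairP Φ.f p (p * Φ.f (Φ.f ν)) = v' := by
    rw [hv, pairP]
    simp only [map_mul, hf3]
    linear_combination (p * Φ.f (Φ.f p)) * htr
  refine ToRep.of_conj Φ (Φ.U1_le_tG (yc_mem Φ (p * Φ.f (Φ.f ν)))) ?_
  obtain ⟨c₁, d₁, e₁⟩ : ∃ c₁ d₁, yc Φ.f (p * Φ.f (Φ.f ν)) *
      (ya Φ.f p * (yc Φ.f 0 * (yd Φ.f v' * (ye c' * yf d')))) * (yc Φ.f (p * Φ.f (Φ.f ν)))⁻¹ =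
        ya Φ.f p * (yc Φ.f 0 * (yd Φ.f 0 * (ye c₁ * yf d₁))) := by
    simp only [mul_inv_rev, ya_inv, yb_inv, yc_inv, yd_inv, ye_inv, yf_inv, mul_assoc, ca Φ.f (hf3 Φ), ca' Φ.f (hf3 Φ), da, da', dc, dc', eb, eb', cb, cb', db, db', fb, fb', ea, ea', fa, fa', ec, ec', ed, ed', fc, fc', fd, fd', fe, fe', ya_add, ya_add', yb_add, yb_add', yc_add, yc_add', yd_add, yd_add', ye_add, ye_add', yf_add, yf_add', CharTwo.add_self_eq_zero, ya_zero, yb_zero, yc_zero, yd_zero, ye_zero, yf_zero, one_mul, mul_one, hP']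
    exact ⟨_, _, rfl⟩
  have hU₁ := mul_mem (mul_mem (yc_mem Φ (p * Φ.f (Φ.f ν))) hU')
    (inv_mem (yc_mem Φ (p * Φ.f (Φ.f ν))))
  rw [e₁] at hU₁ ⊢
  obtain ⟨hc₁, hd₁⟩ := fixed_tail Φ hU₁
  -- remove the component at `3a + 2b`
  obtain ⟨μ, hμ⟩ := FiniteField.isSquare_of_char_two (ringChar.eq K 2) (d₁ / N)
  have hμf : Φ.f μ = μ := sq_fixed Φ (by rw [← hμ, map_div₀, hd₁, hNf])
  have hμP : pairP Φ.f p (p * μ) = 0 := by
    simp only [pairP, map_mul, hf3, hμf]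
    linear_combination (p * Φ.f (Φ.f p) * μ) * (CharTwo.two_eq_zero : (2 : K) = 0)
  have hμB : pairB Φ.f p (p * μ) = d₁ := by
    rw [show d₁ = N * (μ * μ) by rw [← hμ, mul_div_cancel₀ d₁ hN0]]
    simp only [pairB, map_mul, hf3, hμf, hN]
    linear_combination (p * Φ.f p * Φ.f (Φ.f p) * (μ * μ)) * (CharTwo.two_eq_zero : (2 : K) = 0)
  refine ToRep.of_conj Φ (Φ.U1_le_tG (yc_mem Φ (p * μ))) ?_
  obtain ⟨c₂, e₂⟩ : ∃ c₂, yc Φ.f (p * μ) *
      (ya Φ.f p * (yc Φ.f 0 * (yd Φ.f 0 * (ye c₁ * yf d₁)))) * (yc Φ.f (p * μ))⁻¹ =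
        ya Φ.f p * (yc Φ.f 0 * (yd Φ.f 0 * (ye c₂ * yf 0))) := by
    simp only [mul_inv_rev, ya_inv, yb_inv, yc_inv, yd_inv, ye_inv, yf_inv, mul_assoc, ca Φ.f (hf3 Φ), ca' Φ.f (hf3 Φ), da, da', dc, dc', eb, eb', cb, cb', db, db', fb, fb', ea, ea', fa, fa', ec, ec', ed, ed', fc, fc', fd, fd', fe, fe', ya_add, ya_add', yb_add, yb_add', yc_add, yc_add', yd_add, yd_add', ye_add, ye_add', yf_add, yf_add', CharTwo.add_self_eq_zero, ya_zero, yb_zero, yc_zero, yd_zero, ye_zero, yf_zero, one_mul, mul_one, hμP, hμB]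
    exact ⟨_, rfl⟩
  have hU₂ := mul_mem (mul_mem (yc_mem Φ (p * μ)) hU₁) (inv_mem (yc_mem Φ (p * μ)))
  rw [e₂] at hU₂ ⊢
  obtain ⟨hc₂, -⟩ := fixed_tail Φ hU₂
  -- remove the component at `3a + b`
  have hz : pairS Φ.f p (Φ.f (c₂ / p)) = c₂ := by
    simp only [pairS, map_div₀, hc₂, hf3, mul_div_cancel₀ c₂ hp, mul_div_cancel₀ c₂ hp1,
      mul_div_cancel₀ c₂ hp2, CharTwo.add_self_eq_zero, add_zero]
  refine ToRep.of_conj Φ (Φ.U1_le_tG (yd_mem Φ (Φ.f (c₂ / p)))) ?_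
  have e₃ : yd Φ.f (Φ.f (c₂ / p)) * (ya Φ.f p * (yc Φ.f 0 * (yd Φ.f 0 * (ye c₂ * yf 0)))) *
      (yd Φ.f (Φ.f (c₂ / p)))⁻¹ = ya Φ.f p := by
    simp only [mul_inv_rev, ya_inv, yb_inv, yc_inv, yd_inv, ye_inv, yf_inv, mul_assoc, ca Φ.f (hf3 Φ), ca' Φ.f (hf3 Φ), da, da', dc, dc', eb, eb', cb, cb', db, db', fb, fb', ea, ea', fa, fa', ec, ec', ed, ed', fc, fc', fd, fd', fe, fe', ya_add, ya_add', yb_add, yb_add', yc_add, yc_add', yd_add, yd_add', ye_add, ye_add', yf_add, yf_add', CharTwo.add_self_eq_zero, ya_zero, yb_zero, yc_zero, yd_zero, ye_zero, yf_zero, one_mul, mul_one, hz]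
  rw [e₃]
  refine ToRep.of_conj Φ (nb_mem Φ) ?_
  rw [nb_ya]
  refine ToRep.of_conj Φ (na_mem Φ) ?_
  rw [na_yc]
  obtain ⟨h, hh, e⟩ := exists_scale_yd Φ hp1
  exact ⟨h, hh, Or.inr e⟩

theorem conj_mul {G : Type*} [Group G] (n y z : G) :
    n * (y * z) * n⁻¹ = n * y * n⁻¹ * (n * z * n⁻¹) := by group

/-- Involutions without components at `a` and `b`. -/
theorem toRep_of_Q {u v c d : K} (hc : Φ.f c = c) (hd : Φ.f d = d)
    (h2 : yc Φ.f u * (yd Φ.f v * (ye c * yf d)) * (yc Φ.f u * (yd Φ.f v * (ye c * yf d))) = 1)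
    (hne : yc Φ.f u * (yd Φ.f v * (ye c * yf d)) ≠ 1) :
    ToRep Φ (yc Φ.f u * (yd Φ.f v * (ye c * yf d))) := by
  by_cases hu : u = 0
  · subst hu
    rw [yc_zero, one_mul] at h2 hne ⊢
    by_cases hv : v = 0
    · subst hv
      rw [yd_zero, one_mul] at hne ⊢
      exact toRep_long Φ hc hd hne
    · exact toRep_short Φ hv hc hd
  · refine ToRep.of_conj Φ (nb_mem Φ) ?_
    have h3 := conj_sq (k := nb Φ) h2
    have e : nb Φ * (yc Φ.f u * (yd Φ.f v * (ye c * yf d))) * (nb Φ)⁻¹ =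
        ya Φ.f u * (yc Φ.f 0 * (yd Φ.f v * (ye d * yf c))) := by
      simp only [conj_mul, nb_yc, nb_yd, nb_ye, nb_yf, yc_zero, one_mul, fe]
    rw [e] at h3 ⊢
    exact toRep_of_a Φ hu (mul_mem (ya_mem Φ u) (mul_mem (yc_mem Φ 0) (mul_mem (yd_mem Φ v)
      (mul_mem (ye_mem Φ hd) (yf_mem Φ hc))))) h3

/-- Involutions without components at `a` and `3a + b`. -/
theorem toRep_of_c_zero {e u v d : K} (he : Φ.f e = e) (hd : Φ.f d = d)
    (h2 : yb e * (yc Φ.f u * (yd Φ.f v * yf d)) * (yb e * (yc Φ.f u * (yd Φ.f v * yf d))) = 1)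
    (hne : yb e * (yc Φ.f u * (yd Φ.f v * yf d)) ≠ 1) :
    ToRep Φ (yb e * (yc Φ.f u * (yd Φ.f v * yf d))) := by
  refine ToRep.of_conj Φ (na_mem Φ) ?_
  have h3 := conj_sq (k := na Φ) h2
  have h4 : na Φ * (yb e * (yc Φ.f u * (yd Φ.f v * yf d))) * (na Φ)⁻¹ ≠ 1 := fun hh => hne (by
    rwa [conj_eq_one_iff] at hh)
  simp only [conj_mul, na_yb, na_yc, na_yd, na_yf] at h3 h4 ⊢
  have e' : ye e * (yd Φ.f (Φ.f u) * (yc Φ.f (Φ.f (Φ.f v)) * yf d)) =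
      yc Φ.f (Φ.f (Φ.f v)) * (yd Φ.f (Φ.f u) *
        (ye e * yf (pairS Φ.f (Φ.f (Φ.f v)) (Φ.f u) + d))) := by
    rw [dc', mul_assoc, mul_assoc, yf_add, ec', mul_assoc, ed', mul_assoc]
  rw [e'] at h3 h4 ⊢
  exact toRep_of_Q Φ he (by rw [map_add, f_pairS, hd]) h3 h4

/-- Involutions without component at `a`. -/
theorem toRep_of_compl {e u v c d : K} (he : Φ.f e = e) (hc : Φ.f c = c) (hd : Φ.f d = d)
    (h2 : yb e * (yc Φ.f u * (yd Φ.f v * (ye c * yf d))) *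
      (yb e * (yc Φ.f u * (yd Φ.f v * (ye c * yf d)))) = 1)
    (hne : yb e * (yc Φ.f u * (yd Φ.f v * (ye c * yf d))) ≠ 1) :
    ToRep Φ (yb e * (yc Φ.f u * (yd Φ.f v * (ye c * yf d)))) := by
  by_cases he0 : e = 0
  · subst he0
    rw [yb_zero, one_mul] at h2 hne ⊢
    exact toRep_of_Q Φ hc hd h2 hne
  by_cases hc0 : c = 0
  · subst hc0
    rw [ye_zero, one_mul] at h2 hne ⊢
    exact toRep_of_c_zero Φ he hd h2 hne
  refine ToRep.of_conj Φ (Φ.U1_le_tG (ya_mem Φ (u / e))) ?_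
  have hne' : ya Φ.f (u / e) * (yb e * (yc Φ.f u * (yd Φ.f v * (ye c * yf d)))) *
      (ya Φ.f (u / e))⁻¹ ≠ 1 := fun hh => hne (by rwa [conj_eq_one_iff] at hh)
  obtain ⟨v', c', d', e'⟩ : ∃ v' c' d', ya Φ.f (u / e) *
      (yb e * (yc Φ.f u * (yd Φ.f v * (ye c * yf d)))) * (ya Φ.f (u / e))⁻¹ =
        yb e * (yc Φ.f 0 * (yd Φ.f v' * (ye c' * yf d'))) := by
    simp only [ab' Φ.f (hf3 Φ) (u / e) he, mul_inv_rev, ya_inv, yb_inv, yc_inv, yd_inv, ye_inv, yf_inv, mul_assoc, ca Φ.f (hf3 Φ), ca' Φ.f (hf3 Φ), da, da', dc, dc', eb, eb', cb, cb', db, db', fb, fb', ea, ea', fa, fa', ec, ec', ed, ed', fc, fc', fd, fd', fe, fe', ya_add, ya_add', yb_add, yb_add', yc_add, yc_add', yd_add, yd_add', ye_add, ye_add', yf_add, yf_add', CharTwo.add_self_eq_zero, ya_zero, yb_zero, yc_zero, yd_zero, ye_zero, yf_zero, one_mul, mul_one, mul_div_cancel₀ u he0]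
    exact ⟨_, _, _, rfl⟩
  have h3 := conj_sq (k := ya Φ.f (u / e)) h2
  have hU := mul_mem (mul_mem (ya_mem Φ (u / e)) (mul_mem (yb_mem Φ he) (mul_mem (yc_mem Φ u)
    (mul_mem (yd_mem Φ v) (mul_mem (ye_mem Φ hc) (yf_mem Φ hd)))))) (inv_mem (ya_mem Φ (u / e)))
  rw [e'] at h3 hne' hU ⊢
  obtain ⟨-, hd'⟩ : Φ.f c' = c' ∧ Φ.f d' = d' := by
    refine fixed_tail Φ (p := 0) (u := 0) (v := v') ?_
    have := mul_mem (inv_mem (yb_mem Φ he)) hU
    rw [inv_mul_cancel_left] at this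
    rwa [ya_zero, one_mul]
  have hc' : c' = 0 := by
    have h4 := h3
    simp only [mul_inv_rev, ya_inv, yb_inv, yc_inv, yd_inv, ye_inv, yf_inv, mul_assoc, ca Φ.f (hf3 Φ), ca' Φ.f (hf3 Φ), da, da', dc, dc', eb, eb', cb, cb', db, db', fb, fb', ea, ea', fa, fa', ec, ec', ed, ed', fc, fc', fd, fd', fe, fe', ya_add, ya_add', yb_add, yb_add', yc_add, yc_add', yd_add, yd_add', ye_add, ye_add', yf_add, yf_add', CharTwo.add_self_eq_zero, ya_zero, yb_zero, yc_zero, yd_zero, ye_zero, yf_zero, one_mul, mul_one] at h4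
    have := yf_head Φ h4
    simpa [he0] using this
  subst hc'
  rw [yc_zero, ye_zero, one_mul, one_mul] at h3 hne' ⊢
  have := toRep_of_c_zero Φ (u := 0) he hd' (by rwa [yc_zero, one_mul])
    (by rwa [yc_zero, one_mul])
  rwa [yc_zero, one_mul] at this

/-- Every involution of `U¹` is conjugate to a representative. -/
theorem toRep_of_mem_U1 {g : GL chevD4.Idx K} (hg : g ∈ Φ.U1) (h2 : g * g = 1) (hne : g ≠ 1) :
    ToRep Φ g := by
  obtain ⟨e, p, u, v, c, d, he, hc, hd, rfl⟩ := exists_form Φ hg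
  by_cases he0 : e = 0
  · subst he0
    rw [yb_zero, one_mul] at h2 hne hg ⊢
    by_cases hp : p = 0
    · subst hp
      rw [ya_zero, one_mul] at h2 hne ⊢
      exact toRep_of_Q Φ hc hd h2 hne
    · exact toRep_of_a Φ hp hg h2
  by_cases hp : p = 0
  · subst hp
    rw [ya_zero, one_mul] at h2 hne ⊢
    exact toRep_of_compl Φ he hc hd h2 hne
  exfalso
  obtain ⟨v', c', d', e'⟩ : ∃ v' c' d',
      yb e * (ya Φ.f p * (yc Φ.f u * (yd Φ.f v * (ye c * yf d)))) *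
        (yb e * (ya Φ.f p * (yc Φ.f u * (yd Φ.f v * (ye c * yf d))))) =
          yc Φ.f (e * p) * (yd Φ.f v' * (ye c' * yf d')) := by
    simp only [ab' Φ.f (hf3 Φ) p he, mul_inv_rev, ya_inv, yb_inv, yc_inv, yd_inv, ye_inv, yf_inv, mul_assoc, ca Φ.f (hf3 Φ), ca' Φ.f (hf3 Φ), da, da', dc, dc', eb, eb', cb, cb', db, db', fb, fb', ea, ea', fa, fa', ec, ec', ed, ed', fc, fc', fd, fd', fe, fe', ya_add, ya_add', yb_add, yb_add', yc_add, yc_add', yd_add, yd_add', ye_add, ye_add', yf_add, yf_add', CharTwo.add_self_eq_zero, ya_zero, yb_zero, yc_zero, yd_zero, ye_zero, yf_zero, one_mul, mul_one]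
    exact ⟨_, _, _, rfl⟩
  rw [e'] at h2
  exact mul_ne_zero he0 hp (yc_head Φ (tail3 Φ v' c' d') h2)

end CfsgLib.TrialityInvol
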