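import Cfsg.Agent.TrialityInvol.Collect

/-!
# The positive unipotent subgroup of triality D4 in characteristic two

`yb, ya, yc, yd, ye, yf` are the elements of the orbits of `b, a, a + b, 2a + b, 3a + b, 3a + 2b`,
for a ring automorphism `f` of order dividing three.
-/

set_option autoImplicit false
set_option linter.unusedSimpArgs false
set_option maxHeartbeats 2000000

namespace CfsgLib.TrialityInvol

open Cfsg.Lie CfsgLib.Chevalley

variable {K : Type*} [Field K] (f : K ≃+* K)

/-- The root element at `b`. -/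
def yb (e : K) : GL chevD4.Idx K := r 14 e

/-- The orbit element at `a`. -/
def ya (t : K) : GL chevD4.Idx K := r 12 t * (r 18 (f t) * r 13 (f (f t)))

/-- The orbit element at `a + b`. -/
def yc (t : K) : GL chevD4.Idx K := r 15 t * (r 19 (f t) * r 16 (f (f t)))

/-- The orbit element at `2a + b`. -/
def yd (t : K) : GL chevD4.Idx K := r 17 t * (r 20 (f t) * r 21 (f (f t)))

/-- The root element at `3a + b`. -/
def ye (e : K) : GL chevD4.Idx K := r 22 e

/-- The root element at `3a + 2b`. -/
def yf (e : K) : GL chevD4.Idx K := r 23 e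

/-- The pairing of the orbits `a` and `2a + b`, and of `a + b` and `2a + b`. -/
def pairS (t u : K) : K := f t * u + (f (f t) * f u + t * f (f u))

/-- The component at `2a + b` of a commutator. -/
def pairP (t u : K) : K := f (f t) * u + t * f (f u)

/-- The component at `3a + b` of a commutator. -/
def pairA (t u : K) : K :=
  f (f t) * (f t * u) + (f (f t) * (t * f u) + f t * (t * f (f u)))

/-- The component at `3a + 2b` of a commutator. -/
def pairB (t u : K) : K :=
  f u * (f (f t) * u) + (f (f u) * (f t * u) + f (f u) * (t * f u))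

theorem yb_zero : yb (0 : K) = 1 := r_zero _
theorem ye_zero : ye (0 : K) = 1 := r_zero _
theorem yf_zero : yf (0 : K) = 1 := r_zero _
theorem ya_zero : ya f 0 = 1 := by simp [ya, r_zero]
theorem yc_zero : yc f 0 = 1 := by simp [yc, r_zero]
theorem yd_zero : yd f 0 = 1 := by simp [yd, r_zero]

theorem yb_add (s t : K) : yb s * yb t = yb (s + t) := r_add _ _ _
theorem ye_add (s t : K) : ye s * ye t = ye (s + t) := r_add _ _ _
theorem yf_add (s t : K) : yf s * yf t = yf (s + t) := r_add _ _ _

theorem yb_add' (s t : K) (R : GL chevD4.Idx K) : yb s * (yb t * R) = yb (s + t) * R :=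
  under (yb_add s t) R

theorem ye_add' (s t : K) (R : GL chevD4.Idx K) : ye s * (ye t * R) = ye (s + t) * R :=
  under (ye_add s t) R

theorem yf_add' (s t : K) (R : GL chevD4.Idx K) : yf s * (yf t * R) = yf (s + t) * R :=
  under (yf_add s t) R

variable [CharP K 2]

theorem yb_inv (t : K) : (yb t)⁻¹ = yb t := r_inv _ _
theorem ye_inv (t : K) : (ye t)⁻¹ = ye t := r_inv _ _
theorem yf_inv (t : K) : (yf t)⁻¹ = yf t := r_inv _ _

theorem ya_add (s t : K) : ya f s * ya f t = ya f (s + t) := by
  simp only [ya, map_add, mul_assoc, c12_14, c12_14', c18_14, c18_14', c13_14, c13_14', c15_14, c15_14', c19_14, c19_14', c16_14, c16_14', c17_14, c17_14', c20_14, c20_14', c21_14, c21_14', c22_14, c22_14', c23_14, c23_14', c18_12, c18_12', c13_12, c13_12', c15_12, c15_12', c19_12, c19_12', c16_12, c16_12', c17_12, c17_12', c20_12, c20_12', c21_12, c21_12', c22_12, c22_12', c23_12, c23_12', c13_18, c13_18', c15_18, c15_18', c19_18, c19_18', c16_18, c16_18', c17_18, c17_18', c20_18, c20_18', c21_18, c21_18', c22_18, c22_18',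 c23_18, c23_18', c15_13, c15_13', c19_13, c19_13', c16_13, c16_13', c17_13, c17_13', c20_13, c20_13', c21_13, c21_13', c22_13, c22_13', c23_13, c23_13', c19_15, c19_15', c16_15, c16_15', c17_15, c17_15', c20_15, c20_15', c21_15, c21_15', c22_15, c22_15', c23_15, c23_15', c16_19, c16_19', c17_19, c17_19', c20_19, c20_19', c21_19, c21_19', c22_19, c22_19', c23_19, c23_19', c17_16, c17_16', c20_16, c20_16', c21_16, c21_16', c22_16, c22_16', c23_16, c23_16', c20_17, c20_17', c21_17, c21_17', c22_17, c22_17', c23_17, c23_17', c21_20, c21_20', c22_20, c22_20', c23_20, c23_20', c22_21, c22_21', c23_21, c23_21', c23_22, c23_22', r_add, r_add', mul_one]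

theorem ya_add' (s t : K) (R : GL chevD4.Idx K) : ya f s * (ya f t * R) = ya f (s + t) * R :=
  under (ya_add f s t) R

theorem ya_inv (t : K) : (ya f t)⁻¹ = ya f t := by
  refine inv_eq_of_mul_eq_one_right ?_
  rw [ya_add, CharTwo.add_self_eq_zero, ya_zero]

theorem yc_add (s t : K) : yc f s * yc f t = yc f (s + t) := by
  simp only [yc, map_add, mul_assoc, c12_14, c12_14', c18_14, c18_14', c13_14, c13_14', c15_14, c15_14', c19_14, c19_14', c16_14, c16_14', c17_14, c17_14', c20_14, c20_14', c21_14, c21_14', c22_14, c22_14', c23_14, c23_14', c18_12, c18_12', c13_12, c13_12', c15_12, c15_12', c19_12, c19_12', c16_12, c16_12', c17_12, c17_12', c20_12, c20_12', c21_12, c21_12', c22_12, c22_12', c23_12, c23_12', c13_18, c13_18', c15_18, c15_18', c19_18, c19_18', c16_18, c16_18', c17_18, c17_18', c20_18, c20_18', c21_18, c21_18', c22_18, c22_18', c23_18, c23_18', c15_13, c15_13', c19_13, c19_13', c16_13, c16_13', c17_13, c17_13', c20_13, c20_13', c21_13, c21_13', c22_13, c22_13', c23_13, c23_13', c19_15, c19_15', c16_15,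 c16_15', c17_15, c17_15', c20_15, c20_15', c21_15, c21_15', c22_15, c22_15', c23_15, c23_15', c16_19, c16_19', c17_19, c17_19', c20_19, c20_19', c21_19, c21_19', c22_19, c22_19', c23_19, c23_19', c17_16, c17_16', c20_16, c20_16', c21_16, c21_16', c22_16, c22_16', c23_16, c23_16', c20_17, c20_17', c21_17, c21_17', c22_17, c22_17', c23_17, c23_17', c21_20, c21_20', c22_20, c22_20', c23_20, c23_20', c22_21, c22_21', c23_21, c23_21', c23_22, c23_22', r_add, r_add', mul_one]

theorem yc_add' (s t : K) (R : GL chevD4.Idx K) : yc f s * (yc f t * R) = yc f (s + t) * R :=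
  under (yc_add f s t) R

theorem yc_inv (t : K) : (yc f t)⁻¹ = yc f t := by
  refine inv_eq_of_mul_eq_one_right ?_
  rw [yc_add, CharTwo.add_self_eq_zero, yc_zero]

theorem yd_add (s t : K) : yd f s * yd f t = yd f (s + t) := by
  simp only [yd, map_add, mul_assoc, c12_14, c12_14', c18_14, c18_14', c13_14, c13_14', c15_14, c15_14', c19_14, c19_14', c16_14, c16_14', c17_14, c17_14', c20_14, c20_14', c21_14, c21_14', c22_14, c22_14', c23_14, c23_14', c18_12, c18_12', c13_12, c13_12', c15_12, c15_12', c19_12, c19_12', c16_12, c16_12', c17_12, c17_12', c20_12, c20_12', c21_12, c21_12', c22_12, c22_12', c23_12, c23_12', c13_18, c13_18', c15_18, c15_18', c19_18, c19_18', c16_18, c16_18', c17_18, c17_18', c20_18, c20_18', c21_18, c21_18', c22_18, c22_18', c23_18, c23_18', c15_13, c15_13', c19_13, c19_13', c16_13, c16_13', c17_13, c17_13', c20_13, c20_13', c21_13, c21_13', c22_13, c22_13', c23_13, c23_13', c19_15, c19_15', c16_15, c16_15', c17_15, c17_15', c20_15, c20_15', c21_15, c21_15', c22_15, c22_15', c23_15, c23_15',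 c16_19, c16_19', c17_19, c17_19', c20_19, c20_19', c21_19, c21_19', c22_19, c22_19', c23_19, c23_19', c17_16, c17_16', c20_16, c20_16', c21_16, c21_16', c22_16, c22_16', c23_16, c23_16', c20_17, c20_17', c21_17, c21_17', c22_17, c22_17', c23_17, c23_17', c21_20, c21_20', c22_20, c22_20', c23_20, c23_20', c22_21, c22_21', c23_21, c23_21', c23_22, c23_22', r_add, r_add', mul_one]

theorem yd_add' (s t : K) (R : GL chevD4.Idx K) : yd f s * (yd f t * R) = yd f (s + t) * R :=
  under (yd_add f s t) R

theorem yd_inv (t : K) : (yd f t)⁻¹ = yd f t := by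
  refine inv_eq_of_mul_eq_one_right ?_
  rw [yd_add, CharTwo.add_self_eq_zero, yd_zero]

theorem ab (hf : ∀ x, f (f (f x)) = x) (t : K) {e : K} (he : f e = e) :
    ya f t * yb e = yb e * (ya f t * (yc f (e * t) * (yd f (e * (t * f (f t))) *
      ye (e * (t * (f t * f (f t))))))) := by
  simp only [ya, yb, yc, yd, ye, mul_assoc, c12_14, c12_14', c18_14, c18_14', c13_14, c13_14', c15_14, c15_14', c19_14, c19_14', c16_14, c16_14', c17_14, c17_14', c20_14, c20_14', c21_14, c21_14', c22_14, c22_14', c23_14, c23_14', c18_12, c18_12', c13_12, c13_12', c15_12, c15_12', c19_12, c19_12', c16_12, c16_12', c17_12, c17_12', c20_12, c20_12', c21_12, c21_12', c22_12, c22_12', c23_12, c23_12', c13_18, c13_18', c15_18, c15_18', c19_18, c19_18', c16_18, c16_18', c17_18, c17_18', c20_18, c20_18', c21_18, c21_18', c22_18, c22_18', c23_18, c23_18', c15_13, c15_13', c19_13, c19_13', c16_13, c16_13', c17_13, c17_13', c20_13, c20_13', c21_13, c21_13', c22_13, c22_13', c23_13, c23_13', c19_15, c19_15', c16_15, c16_15', c17_15, c17_15',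 c20_15, c20_15', c21_15, c21_15', c22_15, c22_15', c23_15, c23_15', c16_19, c16_19', c17_19, c17_19', c20_19, c20_19', c21_19, c21_19', c22_19, c22_19', c23_19, c23_19', c17_16, c17_16', c20_16, c20_16', c21_16, c21_16', c22_16, c22_16', c23_16, c23_16', c20_17, c20_17', c21_17, c21_17', c22_17, c22_17', c23_17, c23_17', c21_20, c21_20', c22_20, c22_20', c23_20, c23_20', c22_21, c22_21', c23_21, c23_21', c23_22, c23_22', r_add, r_add', mul_one]
  simp only [map_mul, he, hf]
  have h0 : e * (f t * (f (f t) * (e * t))) + e * (f (f t) * (f t * (e * t))) = 0 := by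
    rw [show e * (f (f t) * (f t * (e * t))) = e * (f t * (f (f t) * (e * t))) by ring]
    exact CharTwo.add_self_eq_zero _
  rw [h0, r_zero, mul_one]
  ring_nf

theorem ca (hf : ∀ x, f (f (f x)) = x) (t u : K) :
    yc f u * ya f t = ya f t * (yc f u * (yd f (pairP f t u) *
      (ye (pairA f t u) * yf (pairB f t u)))) := by
  simp only [ya, yc, yd, ye, yf, pairP, pairA, pairB, mul_assoc, c12_14, c12_14', c18_14, c18_14', c13_14, c13_14', c15_14, c15_14', c19_14, c19_14', c16_14, c16_14', c17_14, c17_14', c20_14, c20_14', c21_14, c21_14', c22_14, c22_14', c23_14, c23_14', c18_12, c18_12', c13_12, c13_12', c15_12, c15_12', c19_12, c19_12', c16_12, c16_12', c17_12, c17_12', c20_12, c20_12', c21_12, c21_12', c22_12, c22_12', c23_12, c23_12', c13_18, c13_18', c15_18, c15_18', c19_18, c19_18', c16_18, c16_18', c17_18, c17_18', c20_18, c20_18', c21_18, c21_18', c22_18, c22_18', c23_18, c23_18', c15_13, c15_13', c19_13, c19_13', c16_13, c16_13', c17_13, c17_13', c20_13, c20_13', c21_13, c21_13', c22_13, c22_13', c23_13,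 c23_13', c19_15, c19_15', c16_15, c16_15', c17_15, c17_15', c20_15, c20_15', c21_15, c21_15', c22_15, c22_15', c23_15, c23_15', c16_19, c16_19', c17_19, c17_19', c20_19, c20_19', c21_19, c21_19', c22_19, c22_19', c23_19, c23_19', c17_16, c17_16', c20_16, c20_16', c21_16, c21_16', c22_16, c22_16', c23_16, c23_16', c20_17, c20_17', c21_17, c21_17', c22_17, c22_17', c23_17, c23_17', c21_20, c21_20', c22_20, c22_20', c23_20, c23_20', c22_21, c22_21', c23_21, c23_21', c23_22, c23_22', r_add, r_add', mul_one]
  simp only [map_add, map_mul, hf]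
  ring_nf

theorem da (t u : K) : yd f u * ya f t = ya f t * (yd f u * ye (pairS f t u)) := by
  simp only [ya, yd, ye, pairS, mul_assoc, c12_14, c12_14', c18_14, c18_14', c13_14, c13_14', c15_14, c15_14', c19_14, c19_14', c16_14, c16_14', c17_14, c17_14', c20_14, c20_14', c21_14, c21_14', c22_14, c22_14', c23_14, c23_14', c18_12, c18_12', c13_12, c13_12', c15_12, c15_12', c19_12, c19_12', c16_12, c16_12', c17_12, c17_12', c20_12, c20_12', c21_12, c21_12', c22_12, c22_12', c23_12, c23_12', c13_18, c13_18', c15_18, c15_18', c19_18, c19_18', c16_18, c16_18', c17_18, c17_18', c20_18, c20_18', c21_18, c21_18', c22_18, c22_18', c23_18, c23_18', c15_13, c15_13', c19_13, c19_13', c16_13, c16_13', c17_13, c17_13', c20_13, c20_13', c21_13, c21_13', c22_13, c22_13', c23_13, c23_13', c19_15, c19_15', c16_15, c16_15', c17_15, c17_15', c20_15, c20_15', c21_15, c21_15', c22_15, c22_15', c23_15, c23_15', c16_19, c16_19', c17_19, c17_19', c20_19, c20_19', c21_19, c21_19', c22_19, c22_19', c23_19, c23_19', c17_16, c17_16', c20_16,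 c20_16', c21_16, c21_16', c22_16, c22_16', c23_16, c23_16', c20_17, c20_17', c21_17, c21_17', c22_17, c22_17', c23_17, c23_17', c21_20, c21_20', c22_20, c22_20', c23_20, c23_20', c22_21, c22_21', c23_21, c23_21', c23_22, c23_22', r_add, r_add', mul_one]

theorem dc (t u : K) : yd f u * yc f t = yc f t * (yd f u * yf (pairS f t u)) := by
  simp only [yc, yd, yf, pairS, mul_assoc, c12_14, c12_14', c18_14, c18_14', c13_14, c13_14', c15_14, c15_14', c19_14, c19_14', c16_14, c16_14', c17_14, c17_14', c20_14, c20_14', c21_14, c21_14', c22_14, c22_14', c23_14, c23_14', c18_12, c18_12', c13_12, c13_12', c15_12, c15_12', c19_12, c19_12', c16_12, c16_12', c17_12, c17_12', c20_12, c20_12', c21_12, c21_12', c22_12, c22_12', c23_12, c23_12', c13_18, c13_18', c15_18, c15_18', c19_18, c19_18', c16_18, c16_18', c17_18, c17_18', c20_18, c20_18', c21_18, c21_18', c22_18, c22_18', c23_18, c23_18', c15_13, c15_13', c19_13, c19_13', c16_13, c16_13', c17_13, c17_13', c20_13, c20_13', c21_13, c21_13', c22_13, c22_13', c23_13, c23_13',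 c19_15, c19_15', c16_15, c16_15', c17_15, c17_15', c20_15, c20_15', c21_15, c21_15', c22_15, c22_15', c23_15, c23_15', c16_19, c16_19', c17_19, c17_19', c20_19, c20_19', c21_19, c21_19', c22_19, c22_19', c23_19, c23_19', c17_16, c17_16', c20_16, c20_16', c21_16, c21_16', c22_16, c22_16', c23_16, c23_16', c20_17, c20_17', c21_17, c21_17', c22_17, c22_17', c23_17, c23_17', c21_20, c21_20', c22_20, c22_20', c23_20, c23_20', c22_21, c22_21', c23_21, c23_21', c23_22, c23_22', r_add, r_add', mul_one]

theorem eb (e u : K) : ye u * yb e = yb e * (ye u * yf (e * u)) := c22_14 e u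

theorem cb (t u : K) : yc f u * yb t = yb t * yc f u := by
  simp only [yc, yb, mul_assoc, c12_14, c12_14', c18_14, c18_14', c13_14, c13_14', c15_14, c15_14', c19_14, c19_14', c16_14, c16_14', c17_14, c17_14', c20_14, c20_14', c21_14, c21_14', c22_14, c22_14', c23_14, c23_14', c18_12, c18_12', c13_12, c13_12', c15_12, c15_12', c19_12, c19_12', c16_12, c16_12', c17_12, c17_12', c20_12, c20_12', c21_12, c21_12', c22_12, c22_12', c23_12, c23_12', c13_18, c13_18', c15_18, c15_18', c19_18, c19_18', c16_18, c16_18', c17_18, c17_18', c20_18, c20_18', c21_18, c21_18', c22_18, c22_18', c23_18, c23_18', c15_13, c15_13', c19_13, c19_13', c16_13, c16_13', c17_13, c17_13', c20_13, c20_13', c21_13, c21_13', c22_13, c22_13', c23_13, c23_13', c19_15, c19_15', c16_15, c16_15', c17_15, c17_15', c20_15, c20_15', c21_15, c21_15', c22_15, c22_15', c23_15, c23_15', c16_19, c16_19', c17_19, c17_19', c20_19, c20_19', c21_19, c21_19', c22_19, c22_19', c23_19, c23_19', c17_16, c17_16', c20_16, c20_16', c21_16, c21_16', c22_16, c22_16',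 c23_16, c23_16', c20_17, c20_17', c21_17, c21_17', c22_17, c22_17', c23_17, c23_17', c21_20, c21_20', c22_20, c22_20', c23_20, c23_20', c22_21, c22_21', c23_21, c23_21', c23_22, c23_22', r_add, r_add', mul_one]

theorem cb' (t u : K) (R : GL chevD4.Idx K) :
    yc f u * (yb t * R) = (yb t * yc f u) * R :=
  under (cb f t u) R

theorem db (t u : K) : yd f u * yb t = yb t * yd f u := by
  simp only [yd, yb, mul_assoc, c12_14, c12_14', c18_14, c18_14', c13_14, c13_14', c15_14, c15_14', c19_14, c19_14', c16_14, c16_14', c17_14, c17_14', c20_14, c20_14', c21_14, c21_14', c22_14, c22_14', c23_14, c23_14', c18_12, c18_12', c13_12, c13_12', c15_12, c15_12', c19_12, c19_12', c16_12, c16_12', c17_12, c17_12', c20_12, c20_12', c21_12, c21_12', c22_12, c22_12', c23_12, c23_12', c13_18, c13_18', c15_18, c15_18', c19_18, c19_18', c16_18, c16_18', c17_18, c17_18', c20_18, c20_18', c21_18, c21_18', c22_18, c22_18', c23_18, c23_18', c15_13, c15_13', c19_13, c19_13', c16_13, c16_13', c17_13, c17_13', c20_13, c20_13', c21_13, c21_13',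 c22_13, c22_13', c23_13, c23_13', c19_15, c19_15', c16_15, c16_15', c17_15, c17_15', c20_15, c20_15', c21_15, c21_15', c22_15, c22_15', c23_15, c23_15', c16_19, c16_19', c17_19, c17_19', c20_19, c20_19', c21_19, c21_19', c22_19, c22_19', c23_19, c23_19', c17_16, c17_16', c20_16, c20_16', c21_16, c21_16', c22_16, c22_16', c23_16, c23_16', c20_17, c20_17', c21_17, c21_17', c22_17, c22_17', c23_17, c23_17', c21_20, c21_20', c22_20, c22_20', c23_20, c23_20', c22_21, c22_21', c23_21, c23_21', c23_22, c23_22', r_add, r_add', mul_one]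

theorem db' (t u : K) (R : GL chevD4.Idx K) :
    yd f u * (yb t * R) = (yb t * yd f u) * R :=
  under (db f t u) R

theorem fb (t u : K) : yf u * yb t = yb t * yf u := by
  simp only [yf, yb, mul_assoc, c12_14, c12_14', c18_14, c18_14', c13_14, c13_14', c15_14, c15_14', c19_14, c19_14', c16_14, c16_14', c17_14, c17_14', c20_14, c20_14', c21_14, c21_14', c22_14, c22_14', c23_14, c23_14', c18_12, c18_12', c13_12, c13_12', c15_12, c15_12', c19_12, c19_12', c16_12, c16_12', c17_12, c17_12', c20_12, c20_12', c21_12, c21_12', c22_12, c22_12', c23_12, c23_12', c13_18, c13_18', c15_18, c15_18', c19_18, c19_18', c16_18, c16_18', c17_18, c17_18', c20_18, c20_18', c21_18, c21_18', c22_18, c22_18', c23_18, c23_18', c15_13, c15_13', c19_13, c19_13', c16_13, c16_13', c17_13, c17_13', c20_13, c20_13', c21_13, c21_13', c22_13, c22_13', c23_13, c23_13', c19_15, c19_15', c16_15, c16_15', c17_15, c17_15', c20_15, c20_15', c21_15, c21_15', c22_15, c22_15', c23_15, c23_15', c16_19, c16_19', c17_19, c17_19', c20_19, c20_19', c21_19,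 c21_19', c22_19, c22_19', c23_19, c23_19', c17_16, c17_16', c20_16, c20_16', c21_16, c21_16', c22_16, c22_16', c23_16, c23_16', c20_17, c20_17', c21_17, c21_17', c22_17, c22_17', c23_17, c23_17', c21_20, c21_20', c22_20, c22_20', c23_20, c23_20', c22_21, c22_21', c23_21, c23_21', c23_22, c23_22', r_add, r_add', mul_one]

theorem fb' (t u : K) (R : GL chevD4.Idx K) :
    yf u * (yb t * R) = (yb t * yf u) * R :=
  under (fb t u) R

theorem ea (t u : K) : ye u * ya f t = ya f t * ye u := by
  simp only [ye, ya, mul_assoc, c12_14, c12_14', c18_14, c18_14', c13_14, c13_14', c15_14, c15_14', c19_14, c19_14', c16_14, c16_14', c17_14, c17_14', c20_14, c20_14', c21_14, c21_14', c22_14, c22_14', c23_14, c23_14', c18_12, c18_12', c13_12, c13_12', c15_12, c15_12', c19_12, c19_12', c16_12, c16_12', c17_12, c17_12', c20_12, c20_12', c21_12, c21_12', c22_12, c22_12', c23_12, c23_12', c13_18, c13_18', c15_18, c15_18', c19_18, c19_18', c16_18, c16_18', c17_18, c17_18', c20_18, c20_18', c21_18, c21_18', c22_18, c22_18', c23_18, c23_18',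 c15_13, c15_13', c19_13, c19_13', c16_13, c16_13', c17_13, c17_13', c20_13, c20_13', c21_13, c21_13', c22_13, c22_13', c23_13, c23_13', c19_15, c19_15', c16_15, c16_15', c17_15, c17_15', c20_15, c20_15', c21_15, c21_15', c22_15, c22_15', c23_15, c23_15', c16_19, c16_19', c17_19, c17_19', c20_19, c20_19', c21_19, c21_19', c22_19, c22_19', c23_19, c23_19', c17_16, c17_16', c20_16, c20_16', c21_16, c21_16', c22_16, c22_16', c23_16, c23_16', c20_17, c20_17', c21_17, c21_17', c22_17, c22_17', c23_17, c23_17', c21_20, c21_20', c22_20, c22_20', c23_20, c23_20', c22_21, c22_21', c23_21, c23_21', c23_22, c23_22', r_add, r_add', mul_one]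

theorem ea' (t u : K) (R : GL chevD4.Idx K) :
    ye u * (ya f t * R) = (ya f t * ye u) * R :=
  under (ea f t u) R

theorem fa (t u : K) : yf u * ya f t = ya f t * yf u := by
  simp only [yf, ya, mul_assoc, c12_14, c12_14', c18_14, c18_14', c13_14, c13_14', c15_14, c15_14', c19_14, c19_14', c16_14, c16_14', c17_14, c17_14', c20_14, c20_14', c21_14, c21_14', c22_14, c22_14', c23_14, c23_14', c18_12, c18_12', c13_12, c13_12', c15_12, c15_12', c19_12, c19_12', c16_12, c16_12', c17_12, c17_12', c20_12, c20_12', c21_12, c21_12', c22_12, c22_12', c23_12, c23_12', c13_18, c13_18', c15_18, c15_18', c19_18, c19_18', c16_18, c16_18', c17_18, c17_18', c20_18, c20_18', c21_18, c21_18', c22_18, c22_18', c23_18, c23_18', c15_13, c15_13', c19_13, c19_13', c16_13, c16_13', c17_13, c17_13', c20_13, c20_13', c21_13, c21_13', c22_13, c22_13', c23_13, c23_13', c19_15, c19_15', c16_15, c16_15', c17_15, c17_15', c20_15, c20_15', c21_15, c21_15', c22_15, c22_15', c23_15, c23_15', c16_19, c16_19', c17_19, c17_19', c20_19, c20_19', c21_19,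 c21_19', c22_19, c22_19', c23_19, c23_19', c17_16, c17_16', c20_16, c20_16', c21_16, c21_16', c22_16, c22_16', c23_16, c23_16', c20_17, c20_17', c21_17, c21_17', c22_17, c22_17', c23_17, c23_17', c21_20, c21_20', c22_20, c22_20', c23_20, c23_20', c22_21, c22_21', c23_21, c23_21', c23_22, c23_22', r_add, r_add', mul_one]

theorem fa' (t u : K) (R : GL chevD4.Idx K) :
    yf u * (ya f t * R) = (ya f t * yf u) * R :=
  under (fa f t u) R

theorem ec (t u : K) : ye u * yc f t = yc f t * ye u := by
  simp only [ye, yc, mul_assoc, c12_14, c12_14', c18_14, c18_14', c13_14, c13_14', c15_14, c15_14', c19_14, c19_14', c16_14, c16_14', c17_14, c17_14', c20_14, c20_14', c21_14, c21_14', c22_14, c22_14', c23_14, c23_14', c18_12, c18_12', c13_12, c13_12', c15_12, c15_12', c19_12, c19_12', c16_12, c16_12', c17_12, c17_12', c20_12, c20_12', c21_12, c21_12', c22_12, c22_12', c23_12, c23_12', c13_18, c13_18', c15_18, c15_18', c19_18, c19_18', c16_18, c16_18', c17_18, c17_18', c20_18, c20_18', c21_18, c21_18', c22_18, c22_18', c23_18,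 c23_18', c15_13, c15_13', c19_13, c19_13', c16_13, c16_13', c17_13, c17_13', c20_13, c20_13', c21_13, c21_13', c22_13, c22_13', c23_13, c23_13', c19_15, c19_15', c16_15, c16_15', c17_15, c17_15', c20_15, c20_15', c21_15, c21_15', c22_15, c22_15', c23_15, c23_15', c16_19, c16_19', c17_19, c17_19', c20_19, c20_19', c21_19, c21_19', c22_19, c22_19', c23_19, c23_19', c17_16, c17_16', c20_16, c20_16', c21_16, c21_16', c22_16, c22_16', c23_16, c23_16', c20_17, c20_17', c21_17, c21_17', c22_17, c22_17', c23_17, c23_17', c21_20, c21_20', c22_20, c22_20', c23_20, c23_20', c22_21, c22_21', c23_21, c23_21', c23_22, c23_22', r_add, r_add', mul_one]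

theorem ec' (t u : K) (R : GL chevD4.Idx K) :
    ye u * (yc f t * R) = (yc f t * ye u) * R :=
  under (ec f t u) R

theorem fc (t u : K) : yf u * yc f t = yc f t * yf u := by
  simp only [yf, yc, mul_assoc, c12_14, c12_14', c18_14, c18_14', c13_14, c13_14', c15_14, c15_14', c19_14, c19_14', c16_14, c16_14', c17_14, c17_14', c20_14, c20_14', c21_14, c21_14', c22_14, c22_14', c23_14, c23_14', c18_12, c18_12', c13_12, c13_12', c15_12, c15_12', c19_12, c19_12', c16_12, c16_12', c17_12, c17_12', c20_12, c20_12', c21_12, c21_12', c22_12, c22_12', c23_12, c23_12', c13_18, c13_18', c15_18, c15_18', c19_18, c19_18', c16_18, c16_18', c17_18, c17_18', c20_18, c20_18', c21_18, c21_18', c22_18, c22_18', c23_18, c23_18', c15_13, c15_13', c19_13, c19_13', c16_13, c16_13', c17_13, c17_13', c20_13, c20_13', c21_13, c21_13', c22_13, c22_13', c23_13, c23_13', c19_15, c19_15', c16_15, c16_15', c17_15, c17_15', c20_15, c20_15', c21_15, c21_15', c22_15, c22_15', c23_15, c23_15', c16_19, c16_19', c17_19, c17_19', c20_19, c20_19', c21_19,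 c21_19', c22_19, c22_19', c23_19, c23_19', c17_16, c17_16', c20_16, c20_16', c21_16, c21_16', c22_16, c22_16', c23_16, c23_16', c20_17, c20_17', c21_17, c21_17', c22_17, c22_17', c23_17, c23_17', c21_20, c21_20', c22_20, c22_20', c23_20, c23_20', c22_21, c22_21', c23_21, c23_21', c23_22, c23_22', r_add, r_add', mul_one]

theorem fc' (t u : K) (R : GL chevD4.Idx K) :
    yf u * (yc f t * R) = (yc f t * yf u) * R :=
  under (fc f t u) R

theorem ed (t u : K) : ye u * yd f t = yd f t * ye u := by
  simp only [ye, yd, mul_assoc, c12_14, c12_14', c18_14, c18_14', c13_14, c13_14', c15_14, c15_14', c19_14, c19_14', c16_14, c16_14', c17_14, c17_14', c20_14, c20_14', c21_14, c21_14', c22_14, c22_14', c23_14, c23_14', c18_12, c18_12', c13_12, c13_12', c15_12, c15_12', c19_12, c19_12', c16_12, c16_12', c17_12, c17_12', c20_12, c20_12', c21_12, c21_12', c22_12, c22_12', c23_12, c23_12', c13_18, c13_18', c15_18, c15_18', c19_18, c19_18', c16_18, c16_18', c17_18, c17_18', c20_18, c20_18', c21_18, c21_18', c22_18, c22_18', c23_18,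 c23_18', c15_13, c15_13', c19_13, c19_13', c16_13, c16_13', c17_13, c17_13', c20_13, c20_13', c21_13, c21_13', c22_13, c22_13', c23_13, c23_13', c19_15, c19_15', c16_15, c16_15', c17_15, c17_15', c20_15, c20_15', c21_15, c21_15', c22_15, c22_15', c23_15, c23_15', c16_19, c16_19', c17_19, c17_19', c20_19, c20_19', c21_19, c21_19', c22_19, c22_19', c23_19, c23_19', c17_16, c17_16', c20_16, c20_16', c21_16, c21_16', c22_16, c22_16', c23_16, c23_16', c20_17, c20_17', c21_17, c21_17', c22_17, c22_17', c23_17, c23_17', c21_20, c21_20', c22_20, c22_20', c23_20, c23_20', c22_21, c22_21', c23_21, c23_21', c23_22, c23_22', r_add, r_add', mul_one]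

theorem ed' (t u : K) (R : GL chevD4.Idx K) :
    ye u * (yd f t * R) = (yd f t * ye u) * R :=
  under (ed f t u) R

theorem fd (t u : K) : yf u * yd f t = yd f t * yf u := by
  simp only [yf, yd, mul_assoc, c12_14, c12_14', c18_14, c18_14', c13_14, c13_14', c15_14, c15_14', c19_14, c19_14', c16_14, c16_14', c17_14, c17_14', c20_14, c20_14', c21_14, c21_14', c22_14, c22_14', c23_14, c23_14', c18_12, c18_12', c13_12, c13_12', c15_12, c15_12', c19_12, c19_12', c16_12, c16_12', c17_12, c17_12', c20_12, c20_12', c21_12, c21_12', c22_12, c22_12', c23_12, c23_12', c13_18, c13_18', c15_18, c15_18', c19_18, c19_18', c16_18, c16_18', c17_18, c17_18', c20_18, c20_18', c21_18, c21_18', c22_18, c22_18', c23_18, c23_18', c15_13, c15_13', c19_13, c19_13', c16_13, c16_13', c17_13, c17_13', c20_13, c20_13', c21_13, c21_13', c22_13, c22_13', c23_13, c23_13', c19_15, c19_15', c16_15, c16_15', c17_15, c17_15', c20_15, c20_15', c21_15, c21_15', c22_15, c22_15', c23_15, c23_15', c16_19, c16_19', c17_19, c17_19', c20_19, c20_19', c21_19,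 c21_19', c22_19, c22_19', c23_19, c23_19', c17_16, c17_16', c20_16, c20_16', c21_16, c21_16', c22_16, c22_16', c23_16, c23_16', c20_17, c20_17', c21_17, c21_17', c22_17, c22_17', c23_17, c23_17', c21_20, c21_20', c22_20, c22_20', c23_20, c23_20', c22_21, c22_21', c23_21, c23_21', c23_22, c23_22', r_add, r_add', mul_one]

theorem fd' (t u : K) (R : GL chevD4.Idx K) :
    yf u * (yd f t * R) = (yd f t * yf u) * R :=
  under (fd f t u) R

theorem fe (t u : K) : yf u * ye t = ye t * yf u := by
  simp only [yf, ye, mul_assoc, c12_14, c12_14', c18_14, c18_14', c13_14, c13_14', c15_14, c15_14', c19_14, c19_14', c16_14, c16_14', c17_14, c17_14', c20_14, c20_14', c21_14, c21_14', c22_14, c22_14', c23_14, c23_14', c18_12, c18_12', c13_12, c13_12', c15_12, c15_12', c19_12, c19_12', c16_12, c16_12', c17_12, c17_12', c20_12, c20_12', c21_12, c21_12', c22_12, c22_12', c23_12, c23_12', c13_18, c13_18', c15_18, c15_18', c19_18, c19_18', c16_18, c16_18', c17_18, c17_18', c20_18, c20_18', c21_18, c21_18', c22_18, c22_18', c23_18,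 c23_18', c15_13, c15_13', c19_13, c19_13', c16_13, c16_13', c17_13, c17_13', c20_13, c20_13', c21_13, c21_13', c22_13, c22_13', c23_13, c23_13', c19_15, c19_15', c16_15, c16_15', c17_15, c17_15', c20_15, c20_15', c21_15, c21_15', c22_15, c22_15', c23_15, c23_15', c16_19, c16_19', c17_19, c17_19', c20_19, c20_19', c21_19, c21_19', c22_19, c22_19', c23_19, c23_19', c17_16, c17_16', c20_16, c20_16', c21_16, c21_16', c22_16, c22_16', c23_16, c23_16', c20_17, c20_17', c21_17, c21_17', c22_17, c22_17', c23_17, c23_17', c21_20, c21_20', c22_20, c22_20', c23_20, c23_20', c22_21, c22_21', c23_21, c23_21', c23_22, c23_22', r_add, r_add', mul_one]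

theorem fe' (t u : K) (R : GL chevD4.Idx K) :
    yf u * (ye t * R) = (ye t * yf u) * R :=
  under (fe t u) R

theorem ab' (hf : ∀ x, f (f (f x)) = x) (t : K) {e : K} (he : f e = e) (R : GL chevD4.Idx K) :
    ya f t * (yb e * R) = (yb e * (ya f t * (yc f (e * t) * (yd f (e * (t * f (f t))) *
      ye (e * (t * (f t * f (f t)))))))) * R :=
  under (ab f hf t he) R

theorem ca' (hf : ∀ x, f (f (f x)) = x) (t u : K) (R : GL chevD4.Idx K) :
    yc f u * (ya f t * R) = (ya f t * (yc f u * (yd f (pairP f t u) *
      (ye (pairA f t u) * yf (pairB f t u))))) * R :=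
  under (ca f hf t u) R

theorem da' (t u : K) (R : GL chevD4.Idx K) :
    yd f u * (ya f t * R) = (ya f t * (yd f u * ye (pairS f t u))) * R :=
  under (da f t u) R

theorem dc' (t u : K) (R : GL chevD4.Idx K) :
    yd f u * (yc f t * R) = (yc f t * (yd f u * yf (pairS f t u))) * R :=
  under (dc f t u) R

theorem eb' (e u : K) (R : GL chevD4.Idx K) :
    ye u * (yb e * R) = (yb e * (ye u * yf (e * u))) * R :=
  under (eb e u) R

end CfsgLib.TrialityInvol
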